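import Cfsg.Agent.Lib.SmallGroups.Action
import Cfsg.Agent.Lib.SmallGroups.Local
import Cfsg.Agent.Lib.SmallGroups.Basic

/-!
# Tools for the recognition of `A₇` by its order

Fusion and transfer in an abelian Sylow subgroup, and small helpers.
-/

set_option autoImplicit false

namespace Cfsg.Agent.BC87.A7

open Subgroup

variable {G : Type*} [Group G]

theorem mem_cent {g k : G} : g ∈ centralizer ({k} : Set G) ↔ Commute g k := by
  rw [mem_centralizer_singleton_iff]; exact Iff.rfl

theorem mem_cent_conj {a g h : G} (hg : g ∈ centralizer ({a} : Set G)) :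
    h * g * h⁻¹ ∈ centralizer ({h * a * h⁻¹} : Set G) :=
  mem_cent.mpr ((mem_cent.mp hg).map (MulAut.conj h))

theorem card_cent_conj (a h : G) :
    Nat.card ↥(centralizer ({h * a * h⁻¹} : Set G)) = Nat.card ↥(centralizer ({a} : Set G)) := by
  refine (Nat.card_congr ((MulAut.conj h).toEquiv.subtypeEquiv fun g => ⟨fun hg => ?_, fun hg => ?_⟩)).symm
  · exact mem_cent_conj hg
  · have := mem_cent_conj (h := h⁻¹) (show h * g * h⁻¹ ∈ centralizer ({h * a * h⁻¹} : Set G) from hg)
    simpa [mul_assoc] using this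

theorem exists_mem_orderOf [Finite G] (H : Subgroup G) (p : ℕ) [Fact p.Prime]
    (h : p ∣ Nat.card H) : ∃ x ∈ H, orderOf x = p := by
  obtain ⟨x, hx⟩ := exists_prime_orderOf_dvd_card' p h
  exact ⟨x, x.2, by rw [orderOf_coe]; exact hx⟩

variable [Finite G] [IsSimpleGroup G] {p : ℕ} [Fact p.Prime]

/-- In a nonabelian simple group, the normaliser of an abelian Sylow subgroup has no nontrivial
fixed point on it. -/
theorem fixed_eq_one (hne : ¬ IsMulCommutative G) (P : Sylow p G)
    (hab : IsMulCommutative ↥(P : Subgroup G)) {z : G} (hz : z ∈ (P : Subgroup G))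
    (h : ∀ n ∈ normalizer ((P : Subgroup G) : Set G), n * z * n⁻¹ = z) : z = 1 := by
  have key : ∀ (k : ℕ) (g₀ : G), g₀⁻¹ * z ^ k * g₀ ∈ (P : Subgroup G) →
      g₀⁻¹ * z ^ k * g₀ = z ^ k := by
    intro k g₀ hk
    obtain ⟨n, hn, he⟩ := P.conj_eq_normalizer_conj_of_mem _ g₀ (pow_mem hz k) hk
    rw [he]
    have h2 : n⁻¹ * z * n⁻¹⁻¹ = z := h _ (inv_mem hn)
    calc n⁻¹ * z ^ k * n = n⁻¹ * z ^ k * n⁻¹⁻¹ := by rw [inv_inv]
      _ = (n⁻¹ * z * n⁻¹⁻¹) ^ k := by rw [conj_pow]
      _ = z ^ k := by rw [h2]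
  letI : CommGroup ↥(P : Subgroup G) :=
    { (inferInstance : Group ↥(P : Subgroup G)) with mul_comm := isMulCommutative_iff.mp hab }
  have ht := MonoidHom.transfer_eq_pow (MonoidHom.id ↥(P : Subgroup G)) z key
  set τ := MonoidHom.transfer (MonoidHom.id ↥(P : Subgroup G)) with hτ
  rcases τ.normal_ker.eq_bot_or_eq_top with h1 | h1
  · refine absurd ?_ hne
    refine isMulCommutative_iff.mpr fun a b => (MonoidHom.ker_eq_bot_iff τ).mp h1 ?_
    rw [map_mul, map_mul, mul_comm]
  · have h2 : τ z = 1 := (h1 ▸ mem_top z : z ∈ τ.ker)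
    have h3 : z ^ (P : Subgroup G).index = 1 := by
      rw [ht] at h2
      exact congrArg Subtype.val h2
    obtain ⟨j, hj⟩ := P.2 ⟨z, hz⟩
    have h4 : z ^ p ^ j = 1 := congrArg Subtype.val hj
    have hcop : Nat.Coprime (P : Subgroup G).index (p ^ j) :=
      (Nat.Coprime.pow_right j ((Fact.out : p.Prime).coprime_iff_not_dvd.mpr P.not_dvd_index).symm)
    have := orderOf_dvd_of_pow_eq_one h3
    have h5 : orderOf z ∣ Nat.gcd (P : Subgroup G).index (p ^ j) :=
      Nat.dvd_gcd (orderOf_dvd_of_pow_eq_one h3) (orderOf_dvd_of_pow_eq_one h4)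
    rw [hcop.gcd_eq_one, Nat.dvd_one, orderOf_eq_one_iff] at h5
    exact h5

/-- A point whose stabiliser in the normaliser has index two is conjugate to its inverse there. -/
theorem inverse_of_index_two (hne : ¬ IsMulCommutative G) (P : Sylow p G)
    (hab : IsMulCommutative ↥(P : Subgroup G)) {z : G} (hz : z ∈ (P : Subgroup G))
    (hK : 2 * Nat.card ↥(normalizer ((P : Subgroup G) : Set G) ⊓ centralizer ({z} : Set G))
      = Nat.card ↥(normalizer ((P : Subgroup G) : Set G))) :
    ∃ n ∈ normalizer ((P : Subgroup G) : Set G), n * z * n⁻¹ = z⁻¹ := by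
  set N := normalizer ((P : Subgroup G) : Set G) with hN
  set K := N ⊓ centralizer ({z} : Set G) with hKdef
  have hKN : K ≤ N := inf_le_left
  have hidx : (K.subgroupOf N).index = 2 := by
    have := (K.subgroupOf N).card_mul_index
    rw [Nat.card_congr (subgroupOfEquivOfLe hKN).toEquiv, ← hK, mul_comm 2] at this
    exact Nat.eq_of_mul_eq_mul_left Nat.card_pos this
  have hmm : ∀ a b : G, a ∈ N → b ∈ N → (a * b ∈ K ↔ (a ∈ K ↔ b ∈ K)) := fun a b ha hb =>
    mul_mem_iff_of_index_two hidx (a := ⟨a, ha⟩) (b := ⟨b, hb⟩)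
  have hfixK : ∀ k ∈ K, k * z * k⁻¹ = z := fun k hk => by
    rw [mul_inv_eq_iff_eq_mul]; exact mem_cent.mp hk.2
  obtain ⟨g, hgN, hgK⟩ : ∃ g ∈ N, g ∉ K := by
    by_contra hc
    push_neg at hc
    have hle : N ≤ K := hc
    rw [le_antisymm hKN hle] at hK
    have := Nat.card_pos (α := ↥N)
    omega
  refine ⟨g, hgN, ?_⟩
  set w := g * z * g⁻¹ with hw
  have hwP : w ∈ (P : Subgroup G) := (mem_normalizer_iff.mp hgN z).mp hz
  have hcm : ∀ a ∈ (P : Subgroup G), ∀ b ∈ (P : Subgroup G), a * b = b * a := fun a ha b hb =>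
    congrArg Subtype.val (isMulCommutative_iff.mp hab ⟨a, ha⟩ ⟨b, hb⟩)
  have h1 : z * w = 1 := by
    refine fixed_eq_one hne P hab (mul_mem hz hwP) fun n hn => ?_
    have hmul : n * (z * w) * n⁻¹ = (n * z * n⁻¹) * (n * w * n⁻¹) := by group
    rw [hmul]
    by_cases hnK : n ∈ K
    · have hk : g⁻¹ * n * g ∈ K := by
        rw [hmm _ _ (mul_mem (inv_mem hgN) hn) hgN, hmm _ _ (inv_mem hgN) hn, inv_mem_iff]
        tauto
      rw [hfixK n hnK]
      congr 1
      calc n * w * n⁻¹ = g * ((g⁻¹ * n * g) * z * (g⁻¹ * n * g)⁻¹) * g⁻¹ := by rw [hw]; group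
        _ = w := by rw [hfixK _ hk]
    · have hk : g⁻¹ * n ∈ K := by
        rw [hmm _ _ (inv_mem hgN) hn, inv_mem_iff]; tauto
      have hk' : n * g ∈ K := by rw [hmm _ _ hn hgN]; tauto
      have e1 : n * z * n⁻¹ = w :=
        calc n * z * n⁻¹ = g * ((g⁻¹ * n) * z * (g⁻¹ * n)⁻¹) * g⁻¹ := by group
          _ = w := by rw [hfixK _ hk]
      have e2 : n * w * n⁻¹ = z :=
        calc n * w * n⁻¹ = (n * g) * z * (n * g)⁻¹ := by rw [hw]; group
          _ = z := hfixK _ hk'
      rw [e1, e2, hcm w hwP z hz]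
  exact eq_inv_of_mul_eq_one_right h1

/-- An element of order `5` or `7` normalising a subgroup of order `9` centralises it. -/
theorem centralizes_of_order {H : Subgroup G} (hH : Nat.card H = 9) {g : G} {q : ℕ}
    [Fact q.Prime] (hq : q = 5 ∨ q = 7) (hg : g ^ q = 1) (hgN : g ∈ normalizer (H : Set G)) :
    g ∈ centralizer (H : Set G) := by
  let σ : MulAut ↥H := H.normalizerMonoidHom ⟨g, hgN⟩
  have hσ : σ ^ q ^ 1 = 1 := by
    rw [pow_one, ← map_pow]
    convert map_one H.normalizerMonoidHom using 2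
    exact Subtype.ext hg
  have hmod := SmallGroups.card_fixedBy_modEq_card (α := ↥H) hσ
  let F : Subgroup ↥H :=
    { carrier := {a | σ a = a}
      one_mem' := map_one σ
      mul_mem' := fun {a b} ha hb => by
        simp only [Set.mem_setOf_eq] at *
        rw [map_mul, ha, hb]
      inv_mem' := fun {a} ha => by
        simp only [Set.mem_setOf_eq] at *
        rw [map_inv, ha] }
  have hFc : Nat.card F = Nat.card (MulAction.fixedBy ↥H σ) :=
    Nat.card_congr (Equiv.subtypeEquivRight fun a => Iff.rfl)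
  rw [← hFc, hH] at hmod
  have hd : Nat.card F ∣ 3 ^ 2 := by
    rw [show 3 ^ 2 = Nat.card ↥H from hH.symm]; exact F.card_subgroup_dvd_card
  obtain ⟨i, hi, he⟩ := (Nat.dvd_prime_pow Nat.prime_three).mp hd
  rw [he] at hmod
  have hi2 : i = 2 := by
    unfold Nat.ModEq at hmod
    rcases hq with rfl | rfl <;> interval_cases i <;> omega
  have hF : F = ⊤ := by
    refine eq_top_of_card_eq _ ?_
    rw [he, hi2, hH]; norm_num
  rw [mem_centralizer_iff]
  intro a ha
  have hfix : (⟨a, ha⟩ : ↥H) ∈ F := hF ▸ mem_top _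
  have h1 : g * a * g⁻¹ = a := congrArg Subtype.val hfix
  exact (mul_inv_eq_iff_eq_mul.mp h1).symm

/-- A simple group of order `2520` with a subgroup of index `7` is `A₇`. -/
theorem iso_of_index_seven (hG : Nat.card G = 2520) {H : Subgroup G} (hH : H.index = 7) :
    Nonempty (G ≃* alternatingGroup (Fin 7)) := by
  classical
  have hne : ¬ IsMulCommutative G :=
    SmallGroups.not_comm_of_not_prime (by rw [hG]; norm_num)
  have hHT : H ≠ ⊤ := fun h => by rw [h, index_top] at hH; omega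
  have := Fintype.ofFinite (G ⧸ H)
  have hc : Fintype.card (G ⧸ H) = 7 := by rw [← Nat.card_eq_fintype_card, ← index_eq_card, hH]
  let e : (G ⧸ H) ≃ Fin 7 := Fintype.equivFinOfCardEq hc
  let f : G →* Equiv.Perm (Fin 7) := e.permCongrHom.toMonoidHom.comp (MulAction.toPermHom G (G ⧸ H))
  have hf : Function.Injective f := e.permCongrHom.injective.comp (SmallGroups.toPerm_injective hHT)
  let f' : G →* alternatingGroup (Fin 7) := f.codRestrict (alternatingGroup (Fin 7)) fun g =>
    Equiv.Perm.mem_alternatingGroup.mpr (SmallGroups.sign_hom_eq_one hne f g)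
  have hf' : Function.Injective f' := fun a b h => hf (congrArg Subtype.val h)
  have hcard : Nat.card G = Nat.card (alternatingGroup (Fin 7)) := by
    rw [hG, nat_card_alternatingGroup, Nat.card_fin]; rfl
  exact ⟨MulEquiv.ofBijective f' (hf'.bijective_of_nat_card_le hcard.ge)⟩

end Cfsg.Agent.BC87.A7
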