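import Cfsg.Agent.BC87.A7.Basic

/-!
# Sylow counting in a simple group of order `2520`
-/

set_option autoImplicit false

namespace Cfsg.Agent.BC87.A7

open Subgroup

variable {G : Type*} [Group G] [Finite G]

theorem cent_zpowers (x : G) :
    centralizer ((zpowers x : Subgroup G) : Set G) = centralizer ({x} : Set G) := by
  rw [zpowers_eq_closure, centralizer_closure]

/-- Sylow's congruence inside a subgroup containing a Sylow subgroup. -/
theorem inner_count {p : ℕ} [Fact p.Prime] (P : Sylow p G) (C : Subgroup G)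
    (hPC : (P : Subgroup G) ≤ C) :
    ∃ n : ℕ, n % p = 1 ∧
      Nat.card ↥(normalizer ((P : Subgroup G) : Set G) ⊓ C) * n = Nat.card C := by
  refine ⟨((normalizer ((P : Subgroup G) : Set G)).subgroupOf C).index, ?_, ?_⟩
  · have h := SmallGroups.index_normalizer_subgroupOf_modEq P hPC
    unfold Nat.ModEq at h
    rwa [Nat.mod_eq_of_lt (Fact.out : p.Prime).one_lt] at h
  · have h := ((normalizer ((P : Subgroup G) : Set G)).subgroupOf C).card_mul_index
    rw [← inf_subgroupOf_right, Nat.card_congr (subgroupOfEquivOfLe inf_le_right).toEquiv] at h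
    rwa [inf_subgroupOf_right] at h

theorem card_sylow_index {p : ℕ} [Fact p.Prime] (P : Sylow p G) :
    Nat.card (Sylow p G) = (normalizer ((P : Subgroup G) : Set G)).index :=
  P.card_eq_index_normalizer

/-- Every element of prime order lies in a Sylow subgroup. -/
theorem exists_sylow_mem {p : ℕ} [Fact p.Prime] {z : G} (hz : orderOf z = p) :
    ∃ P : Sylow p G, z ∈ (P : Subgroup G) := by
  have h : IsPGroup p ↥(zpowers z) :=
    IsPGroup.of_card (n := 1) (by rw [Nat.card_zpowers, hz, pow_one])
  obtain ⟨P, hP⟩ := h.exists_le_sylow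
  exact ⟨P, hP (mem_zpowers z)⟩

/-- A simple group of order `2520` without a subgroup of index `7`. -/
structure Hyp (G : Type*) [Group G] : Prop where
  card : Nat.card G = 2520
  index_ne : ∀ H : Subgroup G, H.index ≠ 7

namespace Hyp

variable [IsSimpleGroup G] (h : Hyp G)
include h

theorem ne : ¬ IsMulCommutative G :=
  SmallGroups.not_comm_of_not_prime (by rw [h.card]; norm_num)

omit [Finite G] [IsSimpleGroup G] in
theorem card_ne (H : Subgroup G) : Nat.card H ≠ 360 := by
  intro hc
  apply h.index_ne H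
  have h1 := H.card_mul_index
  rw [hc, h.card] at h1
  omega

theorem cent_seven_aux (P : Sylow 7 G) [Fact (Nat.Prime 7)] :
    ¬ 2 ∣ Nat.card ↥(centralizer ((P : Subgroup G) : Set G)) ∧
      ¬ 3 ∣ Nat.card ↥(centralizer ((P : Subgroup G) : Set G)) := by
  have hG : Nat.card G = 7 ^ 1 * 360 := by rw [h.card]; norm_num
  have hP : Nat.card ↥(P : Subgroup G) = 7 := by
    rw [SmallGroups.card_sylow_eq hG (by norm_num) P, pow_one]
  set N := normalizer ((P : Subgroup G) : Set G)
  set C := centralizer ((P : Subgroup G) : Set G) with hC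
  have hle : C ≤ N := centralizer_le_normalizer _
  have hCN : C.relIndex N ∣ 6 := SmallGroups.relIndex_centralizer_dvd_of_prime _ hP
  have hprod : Nat.card C * C.relIndex N = Nat.card N := by
    have h1 := (C.subgroupOf N).card_mul_index
    rwa [Nat.card_congr (subgroupOfEquivOfLe hle).toEquiv] at h1
  have h7C : 7 ∣ Nat.card C := by
    have : (P : Subgroup G) ≤ C := by
      haveI : IsCyclic ↥(P : Subgroup G) := isCyclic_of_prime_card hP
      exact le_centralizer (H := (P : Subgroup G))
    exact hP ▸ card_dvd_of_le this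
  have hne1 : C.relIndex N ≠ 1 := by
    intro h1
    exact SmallGroups.not_normalizer_le_centralizer h.ne (by rw [h.card]; norm_num) P
      (relIndex_eq_one.mp h1)
  have hNn : Nat.card N * _ = _ := SmallGroups.card_normalizer_mul P
  have hmem := SmallGroups.card_sylow_mem_list (G := G) hG (by norm_num)
  have hd : (Nat.divisors 360).filter (fun d => d % 7 = 1) = {1, 8, 15, 36, 120} := by decide +kernel
  rw [hd] at hmem
  -- an element centralising `P` fixes `1` modulo `7` of the Sylow subgroups
  have hfix : ∀ s ∈ C, ∀ n, Nat.card (Sylow 7 G) = n →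
      Nat.card (MulAction.fixedBy (G ⧸ N) s) ≡ 1 [MOD 7] ∧
      Nat.card (MulAction.fixedBy (G ⧸ N) s) ≤ n ∧
      Nat.card (G ⧸ N) = n ∧
      (Nat.card (MulAction.fixedBy (G ⧸ N) s) = n → s = 1) := by
    intro s hs n hn
    have hcard : Nat.card (G ⧸ N) = n := by rw [← index_eq_card]; exact (card_sylow_index P).symm.trans hn
    refine ⟨SmallGroups.card_fixedBy_modEq_one P hP hs, ?_, hcard, fun he => ?_⟩
    · rw [← hcard]; exact Finite.card_subtype_le _
    · have hall : ∀ q : G ⧸ N, s • q = q := by
        intro q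
        by_contra hq
        have h1 : Nat.card (MulAction.fixedBy (G ⧸ N) s) < Nat.card (G ⧸ N) := by
          refine Finite.card_subtype_lt (x := q) ?_
          exact hq
        omega
      have hNT : N ≠ ⊤ := fun hN => SmallGroups.card_sylow_ne_one h.ne
        (p := 7) (by rw [h.card]; norm_num) (by rw [card_sylow_index P]; change N.index = 1; rw [hN, index_top])
      refine SmallGroups.toPerm_injective hNT ?_
      rw [map_one]
      ext q
      exact hall q
  have hCdvd : Nat.card C ∣ Nat.card N := card_dvd_of_le hle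
  simp only [Finset.mem_insert, Finset.mem_singleton] at hmem
  rcases hmem with hn | hn | hn | hn | hn
  · exact absurd hn (SmallGroups.card_sylow_ne_one h.ne (by rw [h.card]; norm_num))
  · exfalso
    rw [hn, h.card] at hNn
    have hN315 : Nat.card N = 315 := by omega
    rw [hN315] at hprod
    have h5 : 5 ∣ Nat.card C := by
      have : Nat.card C * C.relIndex N = 5 * 63 := hprod
      have hc5 : Nat.Coprime 5 (C.relIndex N) := Nat.Coprime.coprime_dvd_right hCN (by norm_num)
      exact hc5.dvd_of_dvd_mul_right ⟨63, this⟩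
    haveI : Fact (Nat.Prime 5) := ⟨by norm_num⟩
    obtain ⟨s, hs, hs5⟩ := exists_mem_orderOf C 5 h5
    obtain ⟨h1, h2, h3, h4⟩ := hfix s hs 8 hn
    have h6 := SmallGroups.card_fixedBy_modEq_card (q := 5) (α := G ⧸ N) (x := s) (i := 1)
      (by rw [pow_one, ← hs5]; exact pow_orderOf_eq_one s)
    rw [h3] at h6
    unfold Nat.ModEq at h1 h6
    have : Nat.card (MulAction.fixedBy (G ⧸ N) s) = 8 := by omega
    rw [h4 this, orderOf_one] at hs5
    omega
  · exfalso
    rw [hn, h.card] at hNn
    have hN168 : Nat.card N = 168 := by omega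
    rw [hN168] at hprod
    have h2 : 2 ∣ Nat.card C := by
      obtain ⟨k, hk⟩ := hCN
      have : Nat.card C * 6 = 168 * k := by rw [← hprod, hk]; ring
      omega
    haveI : Fact (Nat.Prime 2) := ⟨Nat.prime_two⟩
    obtain ⟨s, hs, hs2⟩ := exists_mem_orderOf C 2 h2
    obtain ⟨h1, h1', h3, h4⟩ := hfix s hs 15 hn
    have h6 := SmallGroups.four_dvd_moved h.ne (α := G ⧸ N) (t := s)
      (by rw [← hs2]; exact pow_orderOf_eq_one s)
    rw [h3] at h6
    unfold Nat.ModEq at h1
    have : Nat.card (MulAction.fixedBy (G ⧸ N) s) = 15 := by omega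
    rw [h4 this, orderOf_one] at hs2
    omega
  all_goals
    rw [hn, h.card] at hNn
    have hN : Nat.card N = 2520 / Nat.card (Sylow 7 G) := by rw [hn]; omega
    rw [hn] at hN
    norm_num at hN
    rw [hN] at hprod
    have hr : C.relIndex N ∈ Nat.divisors 6 := Nat.mem_divisors.mpr ⟨hCN, by norm_num⟩
    rw [show Nat.divisors 6 = {1, 2, 3, 6} from by decide +kernel] at hr
    simp only [Finset.mem_insert, Finset.mem_singleton] at hr
    rcases hr with hr | hr | hr | hr <;> rw [hr] at hprod <;> omega

/-- No element of order `7` commutes with one of order `2` or `3`. -/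
theorem not_commute_seven {x z : G} (hx : orderOf x = 7) {q : ℕ} (hz : orderOf z = q)
    (hq : q = 2 ∨ q = 3) : ¬ Commute z x := by
  intro hcm
  haveI : Fact (Nat.Prime 7) := ⟨by norm_num⟩
  obtain ⟨P, hxP⟩ := exists_sylow_mem hx
  have hP : Nat.card ↥(P : Subgroup G) = 7 := by
    rw [SmallGroups.card_sylow_eq (a := 1) (m := 360) (by rw [h.card]; norm_num) (by norm_num) P,
      pow_one]
  have he : zpowers x = (P : Subgroup G) :=
    eq_of_le_of_card_ge (zpowers_le.mpr hxP) (by rw [hP, Nat.card_zpowers, hx])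
  have hz' : z ∈ centralizer ((P : Subgroup G) : Set G) := by
    rw [← he, cent_zpowers]; exact mem_cent.mpr hcm
  have hdvd : q ∣ Nat.card ↥(centralizer ((P : Subgroup G) : Set G)) :=
    hz ▸ orderOf_dvd_natCard _ hz'
  have := h.cent_seven_aux P
  rcases hq with rfl | rfl
  · exact this.1 hdvd
  · exact this.2 hdvd

theorem card_three (P : Sylow 3 G) [Fact (Nat.Prime 3)] : Nat.card ↥(P : Subgroup G) = 9 :=
  SmallGroups.card_sylow_eq (a := 2) (m := 280) (by rw [h.card]; norm_num) (by norm_num) P

theorem comm_three (P : Sylow 3 G) [Fact (Nat.Prime 3)] : IsMulCommutative ↥(P : Subgroup G) :=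
  IsPGroup.isMulCommutative_of_card_eq_prime_sq (p := 3) (h.card_three P)

theorem le_cent_three (P : Sylow 3 G) [Fact (Nat.Prime 3)] {z : G} (hz : z ∈ (P : Subgroup G)) :
    (P : Subgroup G) ≤ centralizer ({z} : Set G) := fun a ha =>
  mem_cent.mpr (congrArg Subtype.val (isMulCommutative_iff.mp (h.comm_three P) ⟨a, ha⟩ ⟨z, hz⟩))

theorem stab_lt (P : Sylow 3 G) [Fact (Nat.Prime 3)] {z : G} (hz : z ∈ (P : Subgroup G))
    (hz1 : z ≠ 1) :
    Nat.card ↥(normalizer ((P : Subgroup G) : Set G) ⊓ centralizer ({z} : Set G)) ≠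
      Nat.card ↥(normalizer ((P : Subgroup G) : Set G)) := by
  intro he
  have hle : normalizer ((P : Subgroup G) : Set G) ≤ centralizer ({z} : Set G) :=
    (eq_of_le_of_card_ge inf_le_left he.ge) ▸ inf_le_right
  refine hz1 (fixed_eq_one h.ne P (h.comm_three P) hz fun n hn => ?_)
  rw [mul_inv_eq_iff_eq_mul]
  exact mem_cent.mp (hle hn)

theorem no_five_cent (P : Sylow 3 G) [Fact (Nat.Prime 3)] {y : G} (hy : orderOf y = 5)
    (hc : y ∈ centralizer ((P : Subgroup G) : Set G)) : False := by
  haveI : Fact (Nat.Prime 5) := ⟨by norm_num⟩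
  obtain ⟨Q, hyQ⟩ := exists_sylow_mem hy
  have hQ : Nat.card ↥(Q : Subgroup G) = 5 := by
    rw [SmallGroups.card_sylow_eq (a := 1) (m := 504) (by rw [h.card]; norm_num) (by norm_num) Q,
      pow_one]
  have he : zpowers y = (Q : Subgroup G) :=
    eq_of_le_of_card_ge (zpowers_le.mpr hyQ) (by rw [hQ, Nat.card_zpowers, hy])
  set C := centralizer ((Q : Subgroup G) : Set G) with hC
  set N := normalizer ((Q : Subgroup G) : Set G) with hN
  have hCe : C = centralizer ({y} : Set G) := by rw [hC, ← he, cent_zpowers]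
  have hPC : (P : Subgroup G) ≤ C := by
    rw [hCe]
    exact fun a ha => mem_cent.mpr (mem_centralizer_iff.mp hc a ha)
  have h9 : 9 ∣ Nat.card C := h.card_three P ▸ card_dvd_of_le hPC
  have h5 : 5 ∣ Nat.card C := hy ▸ orderOf_dvd_natCard _ (hCe ▸ mem_cent.mpr (Commute.refl y))
  have h45 : 45 ∣ Nat.card C := Nat.Coprime.mul_dvd_of_dvd_of_dvd (by norm_num) h9 h5
  have hle : C ≤ N := centralizer_le_normalizer _
  have hN45 : 45 ∣ Nat.card N := h45.trans (card_dvd_of_le hle)
  have hNn : Nat.card N * _ = _ := SmallGroups.card_normalizer_mul Q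
  rw [h.card] at hNn
  have hmem := SmallGroups.card_sylow_mem_list (G := G) (p := 5) (a := 1) (m := 504)
    (by rw [h.card]; norm_num) (by norm_num)
  rw [show (Nat.divisors 504).filter (fun d => d % 5 = 1) = {1, 6, 21, 36, 56, 126} by
    decide +kernel] at hmem
  simp only [Finset.mem_insert, Finset.mem_singleton] at hmem
  obtain ⟨m, hm⟩ := hN45
  rcases hmem with e | e | e | e | e | e <;> rw [e, hm] at hNn <;> try omega
  · exact SmallGroups.card_sylow_ne_one h.ne (by rw [h.card]; norm_num) e
  · refine SmallGroups.not_normalizer_le_centralizer h.ne (by rw [h.card]; norm_num) Q ?_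
    have hm1 : m = 1 := by omega
    exact (eq_of_le_of_card_ge hle (by
      rw [hm, hm1]; exact Nat.le_of_dvd Nat.card_pos h45)).ge

/-- There are `70` Sylow `3`-subgroups. -/
theorem card_norm (P : Sylow 3 G) [Fact (Nat.Prime 3)] :
    Nat.card ↥(normalizer ((P : Subgroup G) : Set G)) = 36 := by
  set N := normalizer ((P : Subgroup G) : Set G) with hN
  have hNn : Nat.card N * _ = _ := SmallGroups.card_normalizer_mul P
  rw [h.card] at hNn
  have hmem := SmallGroups.card_sylow_mem_list (G := G) (p := 3) (a := 2) (m := 280)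
    (by rw [h.card]; norm_num) (by norm_num)
  rw [show (Nat.divisors 280).filter (fun d => d % 3 = 1) = {1, 4, 7, 10, 28, 40, 70, 280} by
    decide +kernel] at hmem
  simp only [Finset.mem_insert, Finset.mem_singleton] at hmem
  have hPN : (P : Subgroup G) ≤ N := le_normalizer
  obtain ⟨z, hzP, hz3⟩ := exists_mem_orderOf (P : Subgroup G) 3 (by rw [h.card_three P]; norm_num)
  have hseven : ¬ 7 ∣ Nat.card N := fun hd => by
    haveI : Fact (Nat.Prime 7) := ⟨by norm_num⟩
    obtain ⟨x, hx, hx7⟩ := exists_mem_orderOf N 7 hd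
    have := centralizes_of_order (q := 7) (h.card_three P) (Or.inr rfl)
      (by rw [← hx7]; exact pow_orderOf_eq_one x) hx
    exact h.not_commute_seven hx7 hz3 (Or.inr rfl) (mem_centralizer_iff.mp this z hzP)
  rcases hmem with e | e | e | e | e | e | e | e <;> rw [e] at hNn
  · exact absurd e (SmallGroups.card_sylow_ne_one h.ne (by rw [h.card]; norm_num))
  · have := SmallGroups.two_mul_card_dvd_sylow h.ne (p := 3) (by rw [h.card]; norm_num)
    rw [e, h.card] at this
    norm_num [Nat.factorial] at this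
  · exact absurd ((card_sylow_index P).symm.trans e) (h.index_ne N)
  · exact absurd ⟨36, by omega⟩ hseven
  · haveI : Fact (Nat.Prime 5) := ⟨by norm_num⟩
    obtain ⟨s, hs, hs5⟩ := exists_mem_orderOf N 5 ⟨18, by omega⟩
    exact (h.no_five_cent P hs5 (centralizes_of_order (q := 5) (h.card_three P) (Or.inl rfl)
      (by rw [← hs5]; exact pow_orderOf_eq_one s) hs)).elim
  · exact absurd ⟨9, by omega⟩ hseven
  · omega
  · exfalso
    refine SmallGroups.not_normalizer_le_centralizer h.ne (by rw [h.card]; norm_num) P ?_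
    have hNP : (P : Subgroup G) = N :=
      eq_of_le_of_card_ge hPN (by rw [h.card_three P]; omega)
    haveI := h.comm_three P
    rw [← hN, ← hNP]
    exact le_centralizer _

/-- The stabiliser of a nontrivial element of `P` in the normaliser has order `9` or `18`. -/
theorem stab_card (P : Sylow 3 G) [Fact (Nat.Prime 3)] {z : G} (hz : z ∈ (P : Subgroup G))
    (hz1 : z ≠ 1) :
    Nat.card ↥(normalizer ((P : Subgroup G) : Set G) ⊓ centralizer ({z} : Set G)) = 9 ∨
      Nat.card ↥(normalizer ((P : Subgroup G) : Set G) ⊓ centralizer ({z} : Set G)) = 18 := by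
  have hlt := h.stab_lt P hz hz1
  rw [h.card_norm P] at hlt
  have h9 : 9 ∣ Nat.card ↥(normalizer ((P : Subgroup G) : Set G) ⊓ centralizer ({z} : Set G)) :=
    h.card_three P ▸ card_dvd_of_le (le_inf le_normalizer (h.le_cent_three P hz))
  have h36 : Nat.card ↥(normalizer ((P : Subgroup G) : Set G) ⊓ centralizer ({z} : Set G)) ∣ 36 :=
    h.card_norm P ▸ card_dvd_of_le inf_le_left
  have hle := Nat.le_of_dvd (by norm_num) h36
  obtain ⟨i, hi⟩ := h9
  have : i ≤ 4 := by omega
  rw [hi] at hlt h36 ⊢
  interval_cases i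
  all_goals first | omega | (norm_num at h36) | (norm_num at hlt)

/-- An element of a Sylow `3`-subgroup with stabiliser of index two is real. -/
theorem real_of_stab (P : Sylow 3 G) [Fact (Nat.Prime 3)] {z : G} (hz : z ∈ (P : Subgroup G))
    (hk : Nat.card ↥(normalizer ((P : Subgroup G) : Set G) ⊓ centralizer ({z} : Set G)) = 18) :
    ∃ n ∈ normalizer ((P : Subgroup G) : Set G), n * z * n⁻¹ = z⁻¹ :=
  inverse_of_index_two h.ne P (h.comm_three P) hz (by rw [hk, h.card_norm P])

/-- The extended centraliser of a real element of order `3` has twice the order. -/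
theorem card_norm_zpowers {z : G} (hz : orderOf z = 3) {n : G} (hn : n * z * n⁻¹ = z⁻¹) :
    Nat.card ↥(normalizer ((zpowers z : Subgroup G) : Set G)) =
      2 * Nat.card ↥(centralizer ({z} : Set G)) := by
  haveI : Fact (Nat.Prime 3) := ⟨Nat.prime_three⟩
  set M := normalizer ((zpowers z : Subgroup G) : Set G) with hM
  set C := centralizer ({z} : Set G) with hC
  have hle : C ≤ M := by rw [hC, ← cent_zpowers z]; exact centralizer_le_normalizer _
  have hr : C.relIndex M ∣ 2 := by
    rw [hC, ← cent_zpowers z]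
    exact SmallGroups.relIndex_centralizer_dvd_of_prime (p := 3) _ (by rw [Nat.card_zpowers, hz])
  have hprod : Nat.card C * C.relIndex M = Nat.card M := by
    have h1 := (C.subgroupOf M).card_mul_index
    rwa [Nat.card_congr (subgroupOfEquivOfLe hle).toEquiv] at h1
  have hnM : n ∈ M := by
    rw [hM, mem_normalizer_iff_map_conj_eq]
    rw [MonoidHom.map_zpowers]
    change zpowers (n * z * n⁻¹) = zpowers z
    rw [hn, zpowers_inv]
  have h1 : C.relIndex M ≠ 1 := fun h1 => by
    have hc : Commute n z := mem_cent.mp (relIndex_eq_one.mp h1 hnM)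
    have h2 : z = z⁻¹ := by
      rw [← hn, hc.eq, mul_inv_cancel_right]
    have h3 : z ^ 2 = 1 := by rw [pow_two, ← eq_inv_iff_mul_eq_one]; exact h2
    have := orderOf_dvd_of_pow_eq_one h3
    rw [hz] at this
    norm_num at this
  rcases (Nat.dvd_prime Nat.prime_two).mp hr with e | e
  · exact absurd e h1
  · rw [← hprod, e, mul_comm]

/-- No element of order `5` commutes with one of order `3`. -/
theorem not_commute_five {y z : G} (hy : orderOf y = 5) (hz : orderOf z = 3) : ¬ Commute y z := by
  intro hcm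
  haveI : Fact (Nat.Prime 3) := ⟨Nat.prime_three⟩
  haveI : Fact (Nat.Prime 5) := ⟨by norm_num⟩
  obtain ⟨P, hzP⟩ := exists_sylow_mem hz
  set C := centralizer ({z} : Set G) with hC
  set N := normalizer ((P : Subgroup G) : Set G) with hN
  have hz1 : z ≠ 1 := fun e => by rw [e, orderOf_one] at hz; omega
  have hPC : (P : Subgroup G) ≤ C := h.le_cent_three P hzP
  have h9 : 9 ∣ Nat.card C := h.card_three P ▸ card_dvd_of_le hPC
  have h5 : 5 ∣ Nat.card C := hy ▸ orderOf_dvd_natCard _ (mem_cent.mpr hcm)
  have h7 : ¬ 7 ∣ Nat.card C := fun hd => by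
    haveI : Fact (Nat.Prime 7) := ⟨by norm_num⟩
    obtain ⟨x, hx, hx7⟩ := exists_mem_orderOf C 7 hd
    exact h.not_commute_seven hx7 hz (Or.inr rfl) (mem_cent.mp hx).symm
  have hC360 : Nat.card C ∣ 360 :=
    Nat.Coprime.dvd_of_dvd_mul_right (n := 7)
      (((Nat.Prime.coprime_iff_not_dvd (by norm_num)).mpr h7).symm)
      (by
        have := card_subgroup_dvd_card C
        rwa [h.card] at this)
  obtain ⟨j, hj⟩ : 45 ∣ Nat.card C := Nat.Coprime.mul_dvd_of_dvd_of_dvd (by norm_num) h9 h5
  obtain ⟨n, hn3, hkn⟩ := inner_count P C hPC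
  have hj8 : j ∣ 8 := by
    rw [hj, show (360 : ℕ) = 45 * 8 by norm_num] at hC360
    exact Nat.dvd_of_mul_dvd_mul_left (by norm_num) hC360
  have hjle : j ≤ 8 := Nat.le_of_dvd (by norm_num) hj8
  have h360 := h.card_ne C
  rw [hj] at hkn h360
  rcases h.stab_card P hzP hz1 with hk | hk
  · -- trivial stabiliser: `C` has order `90`
    rw [← hN, ← hC] at hk
    rw [← hN, hk] at hkn
    interval_cases j <;> norm_num at hj8 <;> try omega
    -- `C` has a normal subgroup of order `10`, so it normalises `zpowers y`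
    obtain ⟨K, hKn, hKc, hyK⟩ : ∃ K : Subgroup ↥C, K.Normal ∧ Nat.card K = 10 ∧
        (⟨y, mem_cent.mpr hcm⟩ : ↥C) ∈ K := by
      let P' : Sylow 3 ↥C := P.subtype hPC
      haveI hab' : IsMulCommutative ↥(P' : Subgroup ↥C) :=
        IsPGroup.isMulCommutative_of_card_eq_prime_sq (p := 3) (by
          rw [show (P' : Subgroup ↥C) = (P : Subgroup G).subgroupOf C from rfl,
            Nat.card_congr (subgroupOfEquivOfLe hPC).toEquiv, h.card_three P]; norm_num)
      have hN' : normalizer ((P' : Subgroup ↥C) : Set ↥C) ≤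
          centralizer ((P' : Subgroup ↥C) : Set ↥C) := by
        have hNP : normalizer ((P' : Subgroup ↥C) : Set ↥C) = (P' : Subgroup ↥C) := by
          rw [show (P' : Subgroup ↥C) = (P : Subgroup G).subgroupOf C from rfl,
            ← subgroupOf_normalizer_eq hPC, ← inf_subgroupOf_right]
          congr 1
          exact (eq_of_le_of_card_ge (le_inf le_normalizer hPC)
            (by rw [hk, h.card_three P])).symm
        rw [hNP]
        exact le_centralizer _
      refine ⟨(MonoidHom.transferSylow P' hN').ker, inferInstance, ?_, ?_⟩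
      · have h2 := (MonoidHom.ker_transferSylow_isComplement' P' hN').card_mul
        have hcP : Nat.card ↥(P' : Subgroup ↥C) = 9 :=
          (Nat.card_congr (subgroupOfEquivOfLe hPC).toEquiv).trans (h.card_three P)
        rw [hcP, hj] at h2
        omega
      · rw [MonoidHom.mem_ker]
        set a := MonoidHom.transferSylow P' hN' ⟨y, mem_cent.mpr hcm⟩
        have ha5 : a ^ 5 = 1 := by
          rw [← map_pow]
          convert map_one (MonoidHom.transferSylow P' hN') using 2
          exact Subtype.ext (by rw [SubmonoidClass.coe_pow, ← hy, pow_orderOf_eq_one]; rfl)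
        obtain ⟨e, he⟩ := P'.2 a
        have hd : orderOf a ∣ Nat.gcd 5 (3 ^ e) :=
          Nat.dvd_gcd (orderOf_dvd_of_pow_eq_one ha5) (orderOf_dvd_of_pow_eq_one he)
        rw [(Nat.Coprime.pow_right e (show Nat.Coprime 5 3 by norm_num)).gcd_eq_one,
          Nat.dvd_one, orderOf_eq_one_iff] at hd
        exact hd
    haveI := hKn
    set y' : ↥C := ⟨y, mem_cent.mpr hcm⟩ with hy'
    -- `zpowers y` is the only subgroup of order `5` of `K`
    have huniq : ∀ c ∈ C, c * y * c⁻¹ ∈ zpowers y := by
      intro c hc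
      have hmem : (⟨c, hc⟩ : ↥C) * y' * (⟨c, hc⟩ : ↥C)⁻¹ ∈ K := hKn.conj_mem y' hyK _
      have hKs := SmallGroups.card_sylow_mem (G := ↥K) (p := 5) (a := 1) (m := 2)
        (by rw [hKc]; norm_num) (by norm_num)
      have hsyl1 : Nat.card (Sylow 5 ↥K) = 1 := by
        have := Nat.le_of_dvd (by norm_num) hKs.1
        omega
      obtain ⟨S, hS⟩ := exists_sylow_mem (G := ↥K) (p := 5) (z := ⟨y', hyK⟩)
        (by rw [← orderOf_coe, ← orderOf_coe]; exact hy)
      obtain ⟨S', hS'⟩ := exists_sylow_mem (G := ↥K) (p := 5) (z := ⟨_, hmem⟩)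
        (by rw [← orderOf_coe, ← orderOf_coe]
            show orderOf (c * y * c⁻¹) = 5
            rw [← hy]; exact (MulAut.conj c).orderOf_eq y)
      haveI : Subsingleton (Sylow 5 ↥K) := (Nat.card_eq_one_iff_unique.mp hsyl1).1
      rw [Subsingleton.elim S' S] at hS'
      have hSc : Nat.card ↥(S : Subgroup ↥K) = 5 := by
        rw [SmallGroups.card_sylow_eq (a := 1) (m := 2) (by rw [hKc]; norm_num) (by norm_num) S,
          pow_one]
      have hSz : zpowers (⟨y', hyK⟩ : ↥K) = (S : Subgroup ↥K) :=
        eq_of_le_of_card_ge (zpowers_le.mpr hS) (by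
          rw [hSc, Nat.card_zpowers, ← orderOf_coe, ← orderOf_coe]; exact hy.ge)
      rw [← hSz, mem_zpowers_iff] at hS'
      obtain ⟨m, hm⟩ := hS'
      refine mem_zpowers_iff.mpr ⟨m, ?_⟩
      have := congrArg (fun u : ↥K => ((u : ↥C) : G)) hm
      simpa using this
    obtain ⟨Q, hyQ⟩ := exists_sylow_mem hy
    have hQ : Nat.card ↥(Q : Subgroup G) = 5 := by
      rw [SmallGroups.card_sylow_eq (a := 1) (m := 504) (by rw [h.card]; norm_num) (by norm_num) Q,
        pow_one]
    have he : zpowers y = (Q : Subgroup G) :=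
      eq_of_le_of_card_ge (zpowers_le.mpr hyQ) (by rw [hQ, Nat.card_zpowers, hy])
    have hCN : C ≤ normalizer ((Q : Subgroup G) : Set G) := by
      intro c hc
      rw [mem_normalizer_iff_map_conj_eq, ← he, MonoidHom.map_zpowers]
      refine eq_of_le_of_card_ge (zpowers_le.mpr (huniq c hc)) ?_
      rw [Nat.card_zpowers, Nat.card_zpowers]
      exact ((MulAut.conj c).orderOf_eq y).ge
    have h90 := card_dvd_of_le hCN
    rw [hj] at h90
    have hNn := SmallGroups.card_normalizer_mul Q
    rw [h.card] at hNn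
    have hmem := SmallGroups.card_sylow_mem_list (G := G) (p := 5) (a := 1) (m := 504)
      (by rw [h.card]; norm_num) (by norm_num)
    rw [show (Nat.divisors 504).filter (fun d => d % 5 = 1) = {1, 6, 21, 36, 56, 126} by
      decide +kernel] at hmem
    simp only [Finset.mem_insert, Finset.mem_singleton] at hmem
    obtain ⟨m, hm⟩ := h90
    rcases hmem with e | e | e | e | e | e <;> rw [e, hm] at hNn <;> try omega
    exact SmallGroups.card_sylow_ne_one h.ne (by rw [h.card]; norm_num) e
  · -- stabiliser of index two: `z` is real and its extended centraliser has index `7`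
    rw [← hN, ← hC] at hk
    rw [← hN, hk] at hkn
    interval_cases j <;> norm_num at hj8 <;> try omega
    obtain ⟨g, -, hg⟩ := h.real_of_stab P hzP (by rw [← hN, ← hC]; exact hk)
    apply h.card_ne (normalizer ((zpowers z : Subgroup G) : Set G))
    rw [h.card_norm_zpowers hz hg, ← hC, hj]

/-- The centraliser of an element of order `3` has order `9`, `18`, `36` or `72`. -/
theorem cent_three {z : G} (hz : orderOf z = 3) : Nat.card ↥(centralizer ({z} : Set G)) ∣ 72 := by
  set C := centralizer ({z} : Set G)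
  have h7 : ¬ 7 ∣ Nat.card C := fun hd => by
    haveI : Fact (Nat.Prime 7) := ⟨by norm_num⟩
    obtain ⟨x, hx, hx7⟩ := exists_mem_orderOf C 7 hd
    exact h.not_commute_seven hx7 hz (Or.inr rfl) (mem_cent.mp hx).symm
  have h5 : ¬ 5 ∣ Nat.card C := fun hd => by
    haveI : Fact (Nat.Prime 5) := ⟨by norm_num⟩
    obtain ⟨x, hx, hx5⟩ := exists_mem_orderOf C 5 hd
    exact h.not_commute_five hx5 hz (mem_cent.mp hx)
  refine Nat.Coprime.dvd_of_dvd_mul_right (n := 35) ?_ (by
        have := card_subgroup_dvd_card C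
        rwa [h.card] at this)
  exact (Nat.Coprime.mul_left (m := 5) (n := 7) (k := Nat.card C)
    ((Nat.Prime.coprime_iff_not_dvd (by norm_num)).mpr h5)
    ((Nat.Prime.coprime_iff_not_dvd (by norm_num)).mpr h7)).symm

end Hyp

end Cfsg.Agent.BC87.A7
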