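import Cfsg.Agent.BC87.A7.Invol

/-!
# Carmichael generators in a simple group of order `2520`
-/

set_option autoImplicit false

namespace Cfsg.Agent.BC87.A7

open Subgroup

variable {G : Type*} [Group G] [Finite G]

theorem sq_inverter {G : Type*} [Group G] {x s : G} (hs : s * s = 1)
    (h : s * x * s⁻¹ = x⁻¹) : (x * s) ^ 2 = 1 := by
  rw [inv_eq_of_mul_eq_one_right hs] at h
  rw [pow_two, mul_assoc x s, ← mul_assoc s x s, h, mul_inv_cancel]

theorem sq_of_commute {G : Type*} [Group G] {a b : G} (ha : a * a = 1) (hb : b * b = 1)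
    (h : Commute a b) : (a * b) ^ 2 = 1 := by
  rw [h.mul_pow, pow_two, pow_two, ha, hb, one_mul]

namespace Hyp

variable [IsSimpleGroup G] (h : Hyp G) {x : G} (hx : h.Good x) [Fact (Nat.Prime 3)]
include h hx

/-- An element inverting `x` fixes an involution of `C(x)`. -/
theorem exists_fixed {s : G} (hs : s * s = 1) (hsx : s * x * s⁻¹ = x⁻¹) :
    ∃ v : G, orderOf v = 2 ∧ Commute v x ∧ Commute v s := by
  obtain ⟨a, ha, hax⟩ := h.exists_involution hx
  have haa : a * a = 1 := by rw [← pow_two, ← ha, pow_orderOf_eq_one]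
  set b := s * a * s⁻¹ with hb
  have hbx : Commute b x := by
    have h1 : Commute b (s * x * s⁻¹) := hax.map (MulAut.conj s)
    rw [hsx] at h1
    exact Commute.inv_right_iff.mp h1
  have hbb : b * b = 1 := by rw [hb, conj_mul, haa, mul_one, mul_inv_cancel]
  have hsb : s * b * s⁻¹ = a := by
    calc s * b * s⁻¹ = (s * s) * a * (s * s)⁻¹ := by rw [hb]; group
      _ = a := by rw [hs, one_mul, inv_one, mul_one]
  by_cases he : b = a
  · exact ⟨a, ha, hax, (mul_inv_eq_iff_eq_mul.mp he).symm⟩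
  refine ⟨a * b, orderOf_eq_prime (by rw [pow_two]; exact h.mul_inv_inv hx hax haa hbx hbb)
    (fun e => he ?_), hax.mul_left hbx, ?_⟩
  · rw [← inv_eq_of_mul_eq_one_right e, inv_eq_of_mul_eq_one_right haa]
  · have : s * (a * b) * s⁻¹ = a * b := by
      rw [← conj_mul, hsb, ← hb]
      exact (h.inv_commute hx hax haa hbx hbb).eq.symm
    exact (mul_inv_eq_iff_eq_mul.mp this).symm

theorem exists_gens : ∃ e : Fin 5 → G, e 0 = x ∧
    e 0 ^ 3 = 1 ∧ (e 1 ^ 2 = 1 ∧ e 2 ^ 2 = 1 ∧ e 3 ^ 2 = 1 ∧ e 4 ^ 2 = 1) ∧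
    ((e 0 * e 1) ^ 3 = 1 ∧ (e 1 * e 2) ^ 3 = 1 ∧ (e 2 * e 3) ^ 3 = 1 ∧ (e 3 * e 4) ^ 3 = 1) ∧
    ((e 0 * e 2) ^ 2 = 1 ∧ (e 0 * e 3) ^ 2 = 1 ∧ (e 0 * e 4) ^ 2 = 1 ∧ (e 1 * e 3) ^ 2 = 1 ∧
      (e 1 * e 4) ^ 2 = 1 ∧ (e 2 * e 4) ^ 2 = 1) := by
  obtain ⟨P, hxP⟩ := exists_sylow_mem hx.1
  obtain ⟨n, hn, hyx⟩ := h.exists_partner hx P hxP
  obtain ⟨t, ht2, ht⟩ := h.exists_inverting hx P hxP
  set y := n * x * n⁻¹ with hy
  have hyP : y ∈ (P : Subgroup G) := (mem_normalizer_iff.mp hn x).mp hxP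
  have hgy : h.Good y := h.good_conj hx n
  have hxy : Commute x y := mem_cent.mp (h.le_cent_three P hyP hxP)
  have hx3 : x ^ 3 = 1 := by rw [← hx.1, pow_orderOf_eq_one]
  have hy3 : y ^ 3 = 1 := by rw [← hgy.1, pow_orderOf_eq_one]
  have hxny : x ∉ zpowers y := by
    intro hm
    rcases mem_zpowers_three hgy.1 hm with e | e | e
    · exact h.good_ne hx e
    · exact hyx (e ▸ mem_zpowers x)
    · exact hyx (inv_mem_iff.mp (e ▸ mem_zpowers x))
  have htt : t * t = 1 := by rw [← pow_two, ← ht2, pow_orderOf_eq_one]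
  have htinv : t⁻¹ = t := inv_eq_of_mul_eq_one_right htt
  have htx := ht x hxP
  have hty := ht y hyP
  set T := t * y with hT
  have hTx : T * x * T⁻¹ = x⁻¹ :=
    calc T * x * T⁻¹ = t * (y * x * y⁻¹) * t⁻¹ := by rw [hT]; group
      _ = x⁻¹ := by rw [← hxy.eq, mul_inv_cancel_right, htx]
  have hTy : T * y * T⁻¹ = y⁻¹ :=
    calc T * y * T⁻¹ = t * y * t⁻¹ := by rw [hT]; group
      _ = y⁻¹ := hty
  have hTT : T * T = 1 :=
    calc T * T = t * y * t⁻¹ * y := by rw [hT, htinv]; group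
      _ = 1 := by rw [hty, inv_mul_cancel]
  have hT1 : T ≠ 1 := fun e => by
    rw [e, one_mul, inv_one, mul_one] at hTx
    have h1 : x ^ 2 = 1 := by rw [pow_two, ← eq_inv_iff_mul_eq_one]; exact hTx
    have := orderOf_dvd_of_pow_eq_one h1
    rw [hx.1] at this
    norm_num at this
  have hT2 : orderOf T = 2 := orderOf_eq_prime (by rw [pow_two, hTT]) hT1
  obtain ⟨v, hv2, hvx, hvT⟩ := h.exists_fixed hx hTT hTx
  obtain ⟨u, hu2, huy, hut⟩ := h.exists_fixed hgy htt hty
  have hvv : v * v = 1 := by rw [← pow_two, ← hv2, pow_orderOf_eq_one]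
  have huu : u * u = 1 := by rw [← pow_two, ← hu2, pow_orderOf_eq_one]
  have huT : Commute u T := hut.mul_right huy
  set w := T * v with hw
  have hww : w * w = 1 := by
    rw [← pow_two]; exact sq_of_commute hTT hvv hvT.symm
  have hwx : w * x * w⁻¹ = x⁻¹ :=
    calc w * x * w⁻¹ = T * (v * x * v⁻¹) * T⁻¹ := by rw [hw]; group
      _ = x⁻¹ := by rw [hvx.eq, mul_inv_cancel_right, hTx]
  have r01 : (x * u) ^ 3 = 1 := by
    have h1 := h.mul_pow_three hgy huy hu2 hxy hx3 hxny
    calc (x * u) ^ 3 = (u⁻¹ * (u * x) * u⁻¹⁻¹) ^ 3 := by group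
      _ = 1 := by rw [conj_pow, h1, mul_one, mul_inv_cancel]
  have r23 : (w * t) ^ 3 = 1 := by
    have h1 : w * t = v * y⁻¹ :=
      calc w * t = v * (T * t) := by rw [hw, hvT.symm.eq, mul_assoc]
        _ = v * (t * y * t⁻¹) := by rw [hT, htinv]
        _ = v * y⁻¹ := by rw [hty]
    rw [h1]
    exact h.mul_pow_three hx hvx hv2 hxy.symm.inv_left (by rw [inv_pow, hy3, inv_one])
      fun e => hyx (inv_mem_iff.mp e)
  have r34 : (t * T) ^ 3 = 1 := by rw [hT, ← mul_assoc, htt, one_mul, hy3]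
  have r12 : (u * w) ^ 3 = 1 := by
    obtain ⟨g, hg⟩ := h.conj_into_four hx hT2 hTx
    set z := g⁻¹ * x * g⁻¹⁻¹ with hz
    have hgz : h.Good z := h.good_conj hx g⁻¹
    have hTz : Commute T z := by
      have h1 : Commute (g⁻¹ * (g * T * g⁻¹) * g⁻¹⁻¹) z := hg.map (MulAut.conj g⁻¹)
      have h2 : g⁻¹ * (g * T * g⁻¹) * g⁻¹⁻¹ = T := by group
      rwa [h2] at h1
    have hz3 : z ^ 3 = 1 := by rw [← hgz.1, pow_orderOf_eq_one]
    have hself : ∀ {p : G}, orderOf p = 3 → T * p * T⁻¹ = p⁻¹ → z ∈ zpowers p → False := by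
      intro p hp hTp hm
      have hpp : p ≠ p⁻¹ := fun e => by
        have h1 : p ^ 2 = 1 := by rw [pow_two, ← eq_inv_iff_mul_eq_one]; exact e
        have := orderOf_dvd_of_pow_eq_one h1
        rw [hp] at this
        norm_num at this
      rcases mem_zpowers_three hp hm with e | e | e
      · exact h.good_ne hgz e
      · rw [e] at hTz
        rw [hTz.eq, mul_inv_cancel_right] at hTp
        exact hpp hTp
      · rw [e] at hTz
        rw [(Commute.inv_right_iff.mp hTz).eq, mul_inv_cancel_right] at hTp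
        exact hpp hTp
    have hui : u * z * u⁻¹ = z⁻¹ := by
      rcases h.conj_x hgz hT2 hTz huT with e | e
      · exfalso
        exact hself hgy.1 hTy
          (h.triple hgy hu2 huy hz3 (mul_inv_eq_iff_eq_mul.mp e).symm)
      · exact e
    have hvi : v * z * v⁻¹ = z⁻¹ := by
      rcases h.conj_x hgz hT2 hTz hvT with e | e
      · exfalso
        exact hself hx.1 hTx (h.triple hx hv2 hvx hz3 (mul_inv_eq_iff_eq_mul.mp e).symm)
      · exact e
    set d := u * v with hd
    have hdz : Commute d z := by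
      refine mul_inv_eq_iff_eq_mul.mp ?_
      calc d * z * d⁻¹ = u * (v * z * v⁻¹) * u⁻¹ := by rw [hd]; group
        _ = z := by rw [hvi, ← conj_inv, hui, inv_inv]
    have hdinv : d⁻¹ = v * u := by
      rw [hd, mul_inv_rev, inv_eq_of_mul_eq_one_right huu, inv_eq_of_mul_eq_one_right hvv]
    have hud : u * d * u⁻¹ = d⁻¹ := by
      rw [hdinv, hd, inv_eq_of_mul_eq_one_right huu, ← mul_assoc, huu, one_mul]
    have hD : (d ^ 3) * (d ^ 3) = 1 := by rw [← pow_add]; exact h.pow_six hgz hdz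
    have huD : Commute u (d ^ 3) := by
      refine mul_inv_eq_iff_eq_mul.mp ?_
      rw [← conj_pow, hud, inv_pow]
      exact inv_eq_of_mul_eq_one_right hD
    rcases h.fixed_four hgz hT2 hTz huT hui (hdz.pow_left 3) hD huD with e | e
    · exfalso
      have hdu : d * u * d⁻¹ = v := by
        have h1 : d * d = d⁻¹ := by
          rw [eq_inv_iff_mul_eq_one, ← e, pow_succ, pow_two]
        calc d * u * d⁻¹ = d * (u * d * u⁻¹)⁻¹ * u := by rw [hd]; group
          _ = d * d * u := by rw [hud, inv_inv]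
          _ = v := by rw [h1, hdinv, mul_assoc, huu, mul_one]
      set b := d * y * d⁻¹ with hb
      set c := d * b * d⁻¹ with hc
      have hbx : b ∈ zpowers x := by
        refine h.triple hx hv2 hvx (by rw [hb, conj_pow, hy3, mul_one, mul_inv_cancel]) ?_
        rw [← hdu]
        exact huy.symm.map (MulAut.conj d)
      have hb1 : b ≠ 1 := fun e1 => h.good_ne hgy (conj_eq_one_iff.mp e1)
      have hbcases : b = x ∨ b = x⁻¹ := (mem_zpowers_three hx.1 hbx).resolve_left hb1
      have hby : Commute b y := by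
        rcases hbcases with e1 | e1 <;> rw [e1]
        · exact hxy
        · exact hxy.inv_left
      have hdc : d * c * d⁻¹ = y :=
        calc d * c * d⁻¹ = (d ^ 3) * y * (d ^ 3)⁻¹ := by
              rw [hc, hb, pow_succ, pow_two]; group
          _ = y := by rw [e, one_mul, inv_one, mul_one]
      have hcb : Commute c b := hby.map (MulAut.conj d)
      have hcy : Commute c y := by
        have h1 : Commute (d * c * d⁻¹) (d * b * d⁻¹) := hcb.map (MulAut.conj d)
        rw [hdc, ← hc] at h1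
        exact h1.symm
      refine h.no_three hgy (b := b) (c := c) (isConj_iff.mpr ⟨d, rfl⟩)
        (isConj_iff.mpr ⟨d * d, by rw [hc, hb]; group⟩) hby hcy hcb ?_ ?_ ?_
      · intro hm
        rcases hbcases with e1 | e1 <;> rw [e1] at hm
        · exact hxny hm
        · exact hxny (inv_mem_iff.mp hm)
      · intro hm
        obtain ⟨k, hk⟩ := mem_zpowers_iff.mp hm
        have h1 : b ^ k = y := by rw [hb, conj_zpow, hk, hdc]
        exact hyx (h1 ▸ zpow_mem hbx k)
      · intro hm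
        obtain ⟨k, hk⟩ := mem_zpowers_iff.mp hm
        have h1 : y ^ k = b := by
          have h2 : d⁻¹ * b ^ k * d = y ^ k := by rw [hb, conj_zpow]; group
          rw [← h2, hk, hc]; group
        rcases hbcases with e1 | e1
        · exact hxny (e1 ▸ h1 ▸ zpow_mem (mem_zpowers y) k)
        · exact hxny (inv_mem_iff.mp (e1 ▸ h1 ▸ zpow_mem (mem_zpowers y) k))
    · have h1 : u * w = T * d := by rw [hw, hd, ← mul_assoc, huT.eq, mul_assoc]
      have hTd : Commute T d := huT.symm.mul_right hvT.symm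
      rw [h1, hTd.mul_pow, e, pow_succ, pow_two, hTT, one_mul, hTT]
  refine ⟨![x, u, w, t, T], rfl, hx3, ⟨?_, ?_, ?_, ?_⟩, ⟨r01, r12, r23, r34⟩,
    sq_inverter hww hwx, sq_inverter htt htx, sq_inverter hTT hTx,
    sq_of_commute huu htt hut, sq_of_commute huu hTT huT,
    sq_of_commute hww hTT ((Commute.refl T).mul_left hvT)⟩
  · exact (pow_two u).trans huu
  · exact (pow_two w).trans hww
  · exact (pow_two t).trans htt
  · exact (pow_two T).trans hTT

end Hyp

end Cfsg.Agent.BC87.A7
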