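import Cfsg.Agent.BC87.A7.Local

/-!
# Involutions in a simple group of order `2520`

For an element `x` of order `3` with centraliser of order `36`, the involutions of `C(x)` form a
four-group, and `zpowers x` is the only subgroup of order `3` centralised by one of them.
-/

set_option autoImplicit false

namespace Cfsg.Agent.BC87.A7

open Subgroup

variable {G : Type*} [Group G] [Finite G]

namespace Hyp

variable [IsSimpleGroup G] (h : Hyp G) {x : G} (hx : h.Good x) [Fact (Nat.Prime 3)]
include h hx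

/-- The normal four-subgroup of `C(x)`. -/
theorem exists_four : ∃ V : Subgroup G, Nat.card V = 4 ∧ (∀ a ∈ V, a * a = 1) ∧
    (∀ a ∈ V, Commute a x) ∧ (∀ a : G, Commute a x → a * a = 1 → a ∈ V) ∧
    ∀ c : G, Commute c x → c ^ 3 ∈ V := by
  obtain ⟨P, hxP⟩ := exists_sylow_mem hx.1
  set C := centralizer ({x} : Set G) with hC
  have hPC : (P : Subgroup G) ≤ C := h.le_cent_three P hxP
  let P' : Sylow 3 ↥C := P.subtype hPC
  have hP'c : Nat.card ↥(P' : Subgroup ↥C) = 9 :=
    (Nat.card_congr (subgroupOfEquivOfLe hPC).toEquiv).trans (h.card_three P)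
  haveI hab' : IsMulCommutative ↥(P' : Subgroup ↥C) :=
    IsPGroup.isMulCommutative_of_card_eq_prime_sq (p := 3) (by rw [hP'c]; norm_num)
  have hN' : normalizer ((P' : Subgroup ↥C) : Set ↥C) ≤
      centralizer ((P' : Subgroup ↥C) : Set ↥C) := by
    have hNP : normalizer ((P' : Subgroup ↥C) : Set ↥C) = (P' : Subgroup ↥C) := by
      rw [show (P' : Subgroup ↥C) = (P : Subgroup G).subgroupOf C from rfl,
        ← subgroupOf_normalizer_eq hPC, ← inf_subgroupOf_right]
      congr 1
      exact h.norm_inf_cent hx P hxP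
    rw [hNP]
    exact le_centralizer _
  obtain ⟨f, hf⟩ : ∃ f, f = MonoidHom.transferSylow P' hN' := ⟨_, rfl⟩
  have hK : Nat.card f.ker = 4 := by
    have h2 := (MonoidHom.ker_transferSylow_isComplement' P' hN').card_mul
    rw [hP'c, hx.2] at h2
    rw [hf]
    omega
  have hker : ∀ (c : ↥C) (n : ℕ), Nat.Coprime n 3 → c ^ n = 1 → c ∈ f.ker := by
    intro c n hn hc
    rw [MonoidHom.mem_ker]
    obtain ⟨e, he⟩ := P'.2 (f c)
    have hd : orderOf (f c) ∣ Nat.gcd n (3 ^ e) :=
      Nat.dvd_gcd (orderOf_dvd_of_pow_eq_one (by rw [← map_pow, hc, map_one]))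
        (orderOf_dvd_of_pow_eq_one he)
    rw [(Nat.Coprime.pow_right e hn).gcd_eq_one, Nat.dvd_one, orderOf_eq_one_iff] at hd
    exact hd
  set V := f.ker.map C.subtype with hV
  have hVc : Nat.card V = 4 :=
    (Nat.card_congr (f.ker.equivMapOfInjective C.subtype C.subtype_injective).toEquiv).symm.trans hK
  have hVC : ∀ a ∈ V, Commute a x := by
    rintro _ ⟨a, -, rfl⟩
    exact mem_cent.mp a.2
  have hconj : ∀ c ∈ C, ∀ a ∈ V, c * a * c⁻¹ ∈ V := by
    rintro c hc _ ⟨a, ha, rfl⟩
    exact ⟨⟨c, hc⟩ * a * (⟨c, hc⟩ : ↥C)⁻¹, f.normal_ker.conj_mem a ha _, rfl⟩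
  have hsq : ∀ a ∈ V, a * a = 1 := by
    intro a ha
    by_contra hne
    have h4 : a ^ 4 = 1 := by
      have h1 := pow_card_eq_one' (x := (⟨a, ha⟩ : ↥V))
      rw [hVc] at h1
      exact congrArg Subtype.val h1
    have hord : orderOf a = 4 := by
      refine orderOf_eq_prime_pow (p := 2) (n := 1) ?_ (by norm_num; exact h4)
      simpa [pow_two] using hne
    have hVz : zpowers a = V :=
      eq_of_le_of_card_ge (zpowers_le.mpr ha) (by rw [hVc, Nat.card_zpowers, hord])
    obtain ⟨p, hpP, hp3, hpx⟩ := h.exists_other hx P hxP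
    have hu : p * a * p⁻¹ ∈ zpowers a := hVz ▸ hconj p (hPC hpP) a ha
    obtain ⟨i, hi⟩ := mem_zpowers_iff.mp hu
    have hs2 : (a * a) * (a * a) = 1 := by rw [← h4]; simp only [pow_succ, pow_zero, one_mul, mul_assoc]
    have hnot := h.no_inv_two_lines hx hx.1 (hp3 ▸ pow_orderOf_eq_one p)
      ((mem_cent.mp (hPC hpP)).symm) hpx (orderOf_eq_prime (by rw [pow_two, hs2]) hne)
      ((hVC a ha).mul_left (hVC a ha))
    apply hnot
    have h1 : p * (a * a) * p⁻¹ = (a * a) ^ i := by
      rw [← conj_mul, ← hi, (Commute.refl a).mul_zpow]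
    have h2 : (a * a) ^ i = 1 ∨ (a * a) ^ i = a * a := by
      rcases Int.emod_two_eq_zero_or_one i with e | e
      · left
        rw [← zpow_mod_orderOf, orderOf_eq_prime (by rw [pow_two, hs2]) hne]
        push_cast
        rw [e, zpow_zero]
      · right
        rw [← zpow_mod_orderOf, orderOf_eq_prime (by rw [pow_two, hs2]) hne]
        push_cast
        rw [e, zpow_one]
    rcases h2 with h2 | h2
    · rw [h2, conj_eq_one_iff] at h1; exact absurd h1 hne
    · rw [h2, mul_inv_eq_iff_eq_mul] at h1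
      exact h1.symm
  refine ⟨V, hVc, hsq, hVC, fun a hax ha => ?_, fun c hc => ?_⟩
  · exact ⟨⟨a, mem_cent.mpr hax⟩, hker _ 2 (by norm_num)
      (Subtype.ext (show a ^ 2 = 1 by rw [pow_two, ha])), rfl⟩
  · refine ⟨(⟨c, mem_cent.mpr hc⟩ : ↥C) ^ 3, ?_, rfl⟩
    show (⟨c, mem_cent.mpr hc⟩ : ↥C) ^ 3 ∈ f.ker
    rw [MonoidHom.mem_ker, map_pow]
    set q : ↥(P' : Subgroup ↥C) := f ⟨c, mem_cent.mpr hc⟩
    apply Subtype.ext
    apply Subtype.ext
    simp only [SubmonoidClass.coe_pow, OneMemClass.coe_one]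
    exact h.pow_three hx P q.2

theorem inv_commute {a b : G} (hax : Commute a x) (ha : a * a = 1) (hbx : Commute b x)
    (hb : b * b = 1) : Commute a b := by
  obtain ⟨V, -, hsq, -, hmem, -⟩ := h.exists_four hx
  have := hsq _ (mul_mem (hmem a hax ha) (hmem b hbx hb))
  calc a * b = (a * b) * ((b * a) * (a * b)) := by
        rw [mul_assoc b, ← mul_assoc a a, ha, one_mul, hb, mul_one]
    _ = b * a := by
        have h1 : (b * a)⁻¹ = a * b := by
          rw [mul_inv_rev, inv_eq_of_mul_eq_one_right ha, inv_eq_of_mul_eq_one_right hb]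
        rw [← h1, mul_inv_cancel, mul_one]
        exact inv_eq_of_mul_eq_one_right (by
          calc b * a * (b * a) = (a * b * (a * b))⁻¹ := by
                rw [mul_inv_rev (a * b), ← h1, inv_inv]
            _ = 1 := by rw [this, inv_one])

theorem mul_inv_inv {a b : G} (hax : Commute a x) (ha : a * a = 1) (hbx : Commute b x)
    (hb : b * b = 1) : (a * b) * (a * b) = 1 := by
  have hc := h.inv_commute hx hax ha hbx hb
  calc (a * b) * (a * b) = (a * b) * (b * a) := by rw [hc.eq]
    _ = 1 := by rw [mul_assoc, ← mul_assoc b b, hb, one_mul, ha]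

theorem pow_six {c : G} (hc : Commute c x) : c ^ 6 = 1 := by
  obtain ⟨V, -, hsq, -, -, hcube⟩ := h.exists_four hx
  rw [show 6 = 3 * 2 by norm_num, pow_mul, pow_two]
  exact hsq _ (hcube c hc)

theorem exists_involution : ∃ a : G, orderOf a = 2 ∧ Commute a x := by
  haveI : Fact (Nat.Prime 2) := ⟨Nat.prime_two⟩
  obtain ⟨a, ha, h2⟩ := exists_mem_orderOf (centralizer ({x} : Set G)) 2 (by rw [hx.2]; norm_num)
  exact ⟨a, h2, mem_cent.mp ha⟩

/-- An element of order `3` outside `zpowers x` moves every involution of `C(x)`. -/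
theorem conj_ne {a p : G} (hax : Commute a x) (ha : orderOf a = 2) (hpx : Commute p x)
    (hp : p ^ 3 = 1) (hpne : p ∉ zpowers x) : p * a * p⁻¹ ≠ a := fun e =>
  h.no_inv_two_lines hx hx.1 hp hpx.symm hpne ha hax (mul_inv_eq_iff_eq_mul.mp e).symm

/-- The product of an involution and an outside element of order `3` of `C(x)` has order `3`. -/
theorem mul_pow_three {a p : G} (hax : Commute a x) (ha : orderOf a = 2) (hpx : Commute p x)
    (hp : p ^ 3 = 1) (hpne : p ∉ zpowers x) : (a * p) ^ 3 = 1 := by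
  have haa : a * a = 1 := by rw [← pow_two, ← ha, pow_orderOf_eq_one]
  set u := p * a * p⁻¹ with hu
  set u' := p * u * p⁻¹ with hu'
  have hcx : ∀ v : G, Commute v x → Commute (p * v * p⁻¹) x := fun v hv =>
    (hpx.mul_left hv).mul_left hpx.inv_left
  have hsq : ∀ v : G, v * v = 1 → (p * v * p⁻¹) * (p * v * p⁻¹) = 1 := fun v hv => by
    rw [conj_mul, hv, mul_one, mul_inv_cancel]
  have hux := hcx a hax
  have huu := hsq a haa
  have hu'x := hcx u hux
  have hu'u := hsq u huu
  have hwx : Commute (a * u * u') x := (hax.mul_left hux).mul_left hu'x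
  have hww : (a * u * u') * (a * u * u') = 1 :=
    h.mul_inv_inv hx (hax.mul_left hux) (h.mul_inv_inv hx hax haa hux huu) hu'x hu'u
  have hpp : p * p * p = 1 := by rw [← hp, pow_succ, pow_two]
  have hfix : p * (a * u * u') * p⁻¹ = a * u * u' := by
    have h3 : p * u' * p⁻¹ = a :=
      calc p * u' * p⁻¹ = (p * p * p) * a * (p * p * p)⁻¹ := by rw [hu', hu]; group
        _ = a := by rw [hpp, one_mul, inv_one, mul_one]
    calc p * (a * u * u') * p⁻¹ = u * u' * (p * u' * p⁻¹) := by rw [hu', hu]; group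
      _ = a * (u * u') := by
          rw [h3]
          exact (h.inv_commute hx hax haa (hux.mul_left hu'x)
            (h.mul_inv_inv hx hux huu hu'x hu'u)).eq.symm
      _ = a * u * u' := (mul_assoc _ _ _).symm
  have hw1 : a * u * u' = 1 := by
    by_contra hne
    exact h.conj_ne hx hwx (orderOf_eq_prime (by rw [pow_two, hww]) hne) hpx hp hpne hfix
  calc (a * p) ^ 3 = (a * u * u') * (p * p * p) := by rw [hu', hu]; simp only [pow_succ, pow_zero]; group
    _ = 1 := by rw [hw1, hpp, one_mul]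

/-- An element inverting two independent elements does not centralise the four-group. -/
theorem not_central {p t : G} (hpx : Commute p x) (hp : p ^ 3 = 1) (hpne : p ∉ zpowers x)
    (htp : t * p * t⁻¹ = p⁻¹) :
    ¬ ∀ a : G, Commute a x → a * a = 1 → Commute t a := by
  intro hall
  obtain ⟨a, ha, hax⟩ := h.exists_involution hx
  have haa : a * a = 1 := by rw [← pow_two, ← ha, pow_orderOf_eq_one]
  have hu : t * (p * a * p⁻¹) * t⁻¹ = p * a * p⁻¹ := by
    rw [mul_inv_eq_iff_eq_mul]
    exact hall _ ((hpx.mul_left hax).mul_left hpx.inv_left)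
      (by rw [conj_mul, haa, mul_one, mul_inv_cancel])
  have hta : t * a * t⁻¹ = a := mul_inv_eq_iff_eq_mul.mpr (hall a hax haa)
  have h1 : p⁻¹ * a * p = p * a * p⁻¹ := by
    rw [← hu, ← conj_mul, ← conj_mul, ← conj_inv, htp, hta, inv_inv]
  refine h.conj_ne hx hax ha hpx hp hpne ?_
  have hpp : p * p * p = 1 := by rw [← hp, pow_succ, pow_two]
  have h3 : (p * p) * a * (p * p)⁻¹ = a :=
    calc (p * p) * a * (p * p)⁻¹ = p * (p * a * p⁻¹) * p⁻¹ := by group
      _ = a := by rw [← h1]; group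
  calc p * a * p⁻¹ = p * ((p * p) * a * (p * p)⁻¹) * p⁻¹ := by rw [h3]
    _ = (p * p * p) * a * (p * p * p)⁻¹ := by group
    _ = a := by rw [hpp, one_mul, inv_one, mul_one]

theorem exists_inverter : ∃ t : G, orderOf t = 2 ∧ t * x * t⁻¹ = x⁻¹ := by
  obtain ⟨P, hxP⟩ := exists_sylow_mem hx.1
  obtain ⟨t, ht2, ht⟩ := h.exists_inverting hx P hxP
  exact ⟨t, ht2, ht x hxP⟩

/-- An involution inverting `x` is conjugate to one centralising `x`. -/
theorem conj_into_four {t : G} (ht : orderOf t = 2) (htx : t * x * t⁻¹ = x⁻¹) :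
    ∃ g : G, Commute (g * t * g⁻¹) x := by
  haveI : Fact (Nat.Prime 2) := ⟨Nat.prime_two⟩
  by_contra hno
  push_neg at hno
  obtain ⟨V, hVc, hsq, hVx, hmem, -⟩ := h.exists_four hx
  have htt : t * t = 1 := by rw [← pow_two, ← ht, pow_orderOf_eq_one]
  have htV : t ∉ V := fun hV => hno 1 (by simpa using hVx t hV)
  have hle : zpowers t ≤ normalizer (V : Set G) := by
    rw [zpowers_le, mem_normalizer_iff_map_conj_eq]
    refine eq_of_le_of_card_ge ?_ (card_map_of_injective (MulAut.conj t).injective).ge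
    rintro _ ⟨v, hv, rfl⟩
    show t * v * t⁻¹ ∈ V
    refine hmem _ ?_ (by rw [conj_mul, hsq v hv, mul_one, mul_inv_cancel])
    have h1 : Commute (t * v * t⁻¹) (t * x * t⁻¹) := (hVx v hv).map (MulAut.conj t)
    rw [htx] at h1
    exact Commute.inv_right_iff.mp h1
  have hV2 : IsPGroup 2 ↥V := IsPGroup.of_card (n := 2) (by rw [hVc]; norm_num)
  have ht2 : IsPGroup 2 ↥(zpowers t) :=
    IsPGroup.of_card (n := 1) (by rw [Nat.card_zpowers, ht]; norm_num)
  obtain ⟨S, hS⟩ := (hV2.to_sup_of_normal_left' ht2 hle).exists_le_sylow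
  have hSc : Nat.card ↥(S : Subgroup G) = 8 := by
    rw [SmallGroups.card_sylow_eq (a := 3) (m := 315) (by rw [h.card]; norm_num) (by norm_num) S]
    norm_num
  have hVS : V ≤ (S : Subgroup G) := le_sup_left.trans hS
  have hrel : V.relIndex (S : Subgroup G) = 2 := by
    have h1 := (V.subgroupOf (S : Subgroup G)).card_mul_index
    rw [Nat.card_congr (subgroupOfEquivOfLe hVS).toEquiv, hVc, hSc] at h1
    rw [relIndex]
    omega
  obtain ⟨M, hMn, hM2, -⟩ := Involution.thompson_transfer S V hVS hrel htt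
    (fun g hg => hno g (hVx _ hg))
  rcases hMn.eq_bot_or_eq_top with e | e
  · rw [e, index_bot, h.card] at hM2; omega
  · rw [e, index_top] at hM2; omega

/-- An involution of `C(x)` centralises only the powers of `x` among elements of order `3`. -/
theorem triple {a w : G} (ha : orderOf a = 2) (hax : Commute a x) (hw : w ^ 3 = 1)
    (hwa : Commute w a) : w ∈ zpowers x := by
  set M := normalizer ((zpowers x : Subgroup G) : Set G) with hM
  set C := centralizer ({a} : Set G) with hC
  obtain ⟨t, ht2, htx⟩ := h.exists_inverter hx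
  have hM72 : Nat.card M = 72 := by rw [hM, h.card_norm_zpowers hx.1 htx, hx.2]
  have hCM : centralizer ({x} : Set G) ≤ M := by
    rw [← cent_zpowers]; exact centralizer_le_normalizer _
  -- no Sylow `3`-subgroup centralises an involution
  have h9 : ¬ 9 ∣ Nat.card C := by
    intro hd
    obtain ⟨Q, hQ⟩ := Sylow.exists_subgroup_card_pow_prime 3 (n := 2) (G := ↥C)
      (by simpa using hd)
    have hQ' : Nat.card ↥(Q.map C.subtype) = 3 ^ 2 :=
      (card_map_of_injective C.subtype_injective).trans hQ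
    obtain ⟨R, hR⟩ := (IsPGroup.of_card hQ').exists_le_sylow
    have he := eq_of_le_of_card_ge hR (by rw [h.card_three R, hQ']; norm_num)
    have haR : a ∈ (R : Subgroup G) := h.cent_sylow hx R (by
      rw [← he, mem_centralizer_iff]
      rintro _ ⟨b, -, rfl⟩
      exact mem_cent.mp b.2)
    have := orderOf_dvd_natCard _ haR
    rw [ha, h.card_three R] at this
    norm_num at this
  have h7 : ¬ 7 ∣ Nat.card C := fun hd => by
    haveI : Fact (Nat.Prime 7) := ⟨by norm_num⟩
    obtain ⟨g, hg, hg7⟩ := exists_mem_orderOf C 7 hd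
    exact h.not_commute_seven hg7 ha (Or.inl rfl) (mem_cent.mp hg).symm
  obtain ⟨V, hVc, hsq, hVx, hmem, -⟩ := h.exists_four hx
  have haa : a * a = 1 := by rw [← pow_two, ← ha, pow_orderOf_eq_one]
  have hW : Nat.card ↥(M ⊓ C) = 24 := by
    classical
    have h1 := stab_mul_range M a
    rw [hM72, ← hC] at h1
    have hsub : (Set.range fun n : M => (n : G) * a * (n : G)⁻¹) ⊆
        ((V : Set G).toFinite.toFinset.erase 1 : Finset G) := by
      rintro v ⟨n, rfl⟩
      have hna : (n : G) * a * (n : G)⁻¹ ∈ V := by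
        refine hmem _ ?_ (by rw [conj_mul, haa, mul_one, mul_inv_cancel])
        have hc : Commute ((n : G) * a * (n : G)⁻¹) ((n : G) * x * (n : G)⁻¹) :=
          hax.map (MulAut.conj (n : G))
        rcases mem_zpowers_three hx.1 ((mem_normalizer_iff.mp n.2 x).mp (mem_zpowers x))
          with e | e | e
        · exact absurd (conj_eq_one_iff.mp e) (h.good_ne hx)
        · rwa [e] at hc
        · rw [e] at hc; exact Commute.inv_right_iff.mp hc
      rw [Finset.mem_coe, Finset.mem_erase, Set.Finite.mem_toFinset]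
      refine ⟨fun e => ?_, hna⟩
      rw [conj_eq_one_iff] at e
      rw [e, orderOf_one] at ha
      omega
    have h2 := Nat.card_mono (Finset.finite_toSet _) hsub
    rw [SetLike.coe_sort_coe, Nat.card_eq_finsetCard,
      Finset.card_erase_of_mem ((Set.Finite.mem_toFinset _).mpr (one_mem V)),
      ← Set.ncard_eq_toFinset_card, ← Nat.card_coe_set_eq] at h2
    change Nat.card _ ≤ Nat.card ↥V - 1 at h2
    rw [hVc] at h2
    have h24 : 24 ≤ Nat.card ↥(M ⊓ C) := by nlinarith
    have hd : Nat.card ↥(M ⊓ C) ∣ 72 := ⟨_, h1.symm⟩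
    obtain ⟨r, hr⟩ := hd
    have hr3 : r ≤ 3 := by nlinarith
    have hr0 : r ≠ 0 := fun e => by rw [e, mul_zero] at hr; omega
    by_contra hne
    apply h9
    refine Nat.dvd_trans ?_ (card_dvd_of_le (inf_le_right : M ⊓ C ≤ C))
    interval_cases r <;> omega
  have h24C : 24 ∣ Nat.card C := hW ▸ card_dvd_of_le inf_le_right
  obtain ⟨j, hj⟩ := h24C
  have hj105 : j ∣ 105 := by
    have h1 := card_subgroup_dvd_card C
    rw [hj, h.card, show 2520 = 24 * 105 by norm_num] at h1
    exact Nat.dvd_of_mul_dvd_mul_left (by norm_num) h1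
  have hj : Nat.card C = 24 := by
    have hj' : j ∈ Nat.divisors 105 := Nat.mem_divisors.mpr ⟨hj105, by norm_num⟩
    rw [show Nat.divisors 105 = {1, 3, 5, 7, 15, 21, 35, 105} by decide +kernel] at hj'
    simp only [Finset.mem_insert, Finset.mem_singleton] at hj'
    rcases hj' with rfl | rfl | rfl | rfl | rfl | rfl | rfl | rfl <;>
      first
        | exact hj
        | (exfalso; apply h9; rw [hj]; norm_num; done)
        | (exfalso; apply h7; rw [hj]; norm_num; done)
        | skip
    -- order `120` would give five Sylow `3`-subgroups in `C`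
    exfalso
    have hxC : x ∈ C := mem_cent.mpr hax.symm
    obtain ⟨S, hxS⟩ := exists_sylow_mem (G := ↥C) (p := 3) (z := ⟨x, hxC⟩)
      (by rw [orderOf_mk]; exact hx.1)
    have hSc : Nat.card ↥(S : Subgroup ↥C) = 3 := by
      rw [SmallGroups.card_sylow_eq (a := 1) (m := 40) (by rw [hj]; norm_num) (by norm_num) S,
        pow_one]
    have hzC : zpowers x ≤ C := zpowers_le.mpr hxC
    have hSe : (zpowers x).subgroupOf C = (S : Subgroup ↥C) := by
      refine eq_of_le_of_card_ge ?_ ?_
      · intro b hb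
        rw [mem_subgroupOf, mem_zpowers_iff] at hb
        obtain ⟨k, hk⟩ := hb
        have : (⟨x, hxC⟩ : ↥C) ^ k = b := Subtype.ext (by simpa using hk)
        exact this ▸ zpow_mem hxS k
      · rw [hSc, Nat.card_congr (subgroupOfEquivOfLe hzC).toEquiv, Nat.card_zpowers, hx.1]
    have h5 := (M.subgroupOf C).card_mul_index
    rw [← inf_subgroupOf_right, Nat.card_congr (subgroupOfEquivOfLe inf_le_right).toEquiv, hW,
      inf_subgroupOf_right, hj] at h5
    have h3 := card_sylow_modEq_one 3 ↥C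
    rw [card_sylow_index S, ← hSe, ← subgroupOf_normalizer_eq hzC, ← hM] at h3
    unfold Nat.ModEq at h3
    omega
  have hCW : C ≤ M := (eq_of_le_of_card_ge (inf_le_right : M ⊓ C ≤ C) (by rw [hW, hj])) ▸ inf_le_left
  have hwM : w ∈ M := hCW (mem_cent.mpr hwa)
  have hidx : ((centralizer ({x} : Set G)).subgroupOf M).index = 2 := by
    have h1 := ((centralizer ({x} : Set G)).subgroupOf M).card_mul_index
    rw [Nat.card_congr (subgroupOfEquivOfLe hCM).toEquiv, hx.2, hM72] at h1
    omega
  have hwx : Commute w x := by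
    have h1 : Commute (w * w) x :=
      mem_cent.mp (mul_self_mem_of_index_two hidx (⟨w, hwM⟩ : ↥M))
    have h2 : (w * w) * (w * w) = w :=
      calc (w * w) * (w * w) = w * w ^ 3 := by simp only [pow_succ, pow_zero]; group
        _ = w := by rw [hw, mul_one]
    rw [← h2]
    exact h1.mul_left h1
  by_contra hne
  exact h.no_inv_two_lines hx hx.1 hw hwx.symm hne ha hax hwa.symm

/-- The centraliser of an involution of `C(x)` normalises `zpowers x`. -/
theorem conj_x {a g : G} (ha : orderOf a = 2) (hax : Commute a x) (hga : Commute g a) :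
    g * x * g⁻¹ = x ∨ g * x * g⁻¹ = x⁻¹ := by
  have hc : Commute (g * x * g⁻¹) a := by
    have h1 : Commute (g * x * g⁻¹) (g * a * g⁻¹) := hax.symm.map (MulAut.conj g)
    rwa [mul_inv_eq_iff_eq_mul.mpr hga.eq] at h1
  have h3 : (g * x * g⁻¹) ^ 3 = 1 := by
    rw [conj_pow, ← hx.1, pow_orderOf_eq_one, mul_one, mul_inv_cancel]
  rcases mem_zpowers_three hx.1 (h.triple hx ha hax h3 hc) with e | e | e
  · exact absurd (conj_eq_one_iff.mp e) (h.good_ne hx)
  · exact Or.inl e
  · exact Or.inr e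

/-- An element inverting `x` and centralising an involution `a` of `C(x)` fixes only `a`. -/
theorem fixed_four {a b s : G} (ha : orderOf a = 2) (hax : Commute a x) (hsa : Commute s a)
    (hsx : s * x * s⁻¹ = x⁻¹) (hbx : Commute b x) (hb : b * b = 1) (hsb : Commute s b) :
    b = 1 ∨ b = a := by
  classical
  by_contra hcon
  push_neg at hcon
  obtain ⟨hb1, hba⟩ := hcon
  have haa : a * a = 1 := by rw [← pow_two, ← ha, pow_orderOf_eq_one]
  have ha1 : a ≠ 1 := fun e => by rw [e, orderOf_one] at ha; omega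
  obtain ⟨V, hVc, hsq, hVx, hmem, hcube⟩ := h.exists_four hx
  have hVs : ∀ v ∈ V, Commute s v := by
    intro v hv
    have hsubset : ({1, a, b, a * b} : Finset G) ⊆ (V : Set G).toFinite.toFinset := by
      intro u hu
      simp only [Finset.mem_insert, Finset.mem_singleton] at hu
      rw [Set.Finite.mem_toFinset]
      rcases hu with rfl | rfl | rfl | rfl
      · exact one_mem V
      · exact hmem _ hax haa
      · exact hmem _ hbx hb
      · exact mul_mem (hmem _ hax haa) (hmem _ hbx hb)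
    have hcard : ({1, a, b, a * b} : Finset G).card = 4 := by
      rw [Finset.card_insert_of_notMem, Finset.card_insert_of_notMem,
        Finset.card_insert_of_notMem, Finset.card_singleton]
      · simp only [Finset.mem_singleton]
        intro e
        exact ha1 (mul_eq_right.mp e.symm)
      · simp only [Finset.mem_insert, Finset.mem_singleton, not_or]
        exact ⟨Ne.symm hba, fun e => hb1 (mul_eq_left.mp e.symm)⟩
      · simp only [Finset.mem_insert, Finset.mem_singleton, not_or]
        refine ⟨Ne.symm ha1, Ne.symm hb1, fun e => hba ?_⟩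
        rw [← inv_eq_of_mul_eq_one_right e.symm, inv_eq_of_mul_eq_one_right haa]
    have heq := Finset.eq_of_subset_of_card_le hsubset (by
      rw [hcard, ← Set.ncard_eq_toFinset_card, ← Nat.card_coe_set_eq]; exact hVc.le)
    have hv' : v ∈ (V : Set G).toFinite.toFinset := (Set.Finite.mem_toFinset _).mpr hv
    rw [← heq] at hv'
    simp only [Finset.mem_insert, Finset.mem_singleton] at hv'
    rcases hv' with rfl | rfl | rfl | rfl
    · exact Commute.one_right s
    · exact hsa
    · exact hsb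
    · exact hsa.mul_right hsb
  obtain ⟨P, hxP⟩ := exists_sylow_mem hx.1
  obtain ⟨t, ht2, ht⟩ := h.exists_inverting hx P hxP
  obtain ⟨p, hpP, hp3, hpx⟩ := h.exists_other hx P hxP
  refine h.not_central hx (mem_cent.mp (h.le_cent_three P hxP hpP)) (hp3 ▸ pow_orderOf_eq_one p)
    hpx (ht p hpP) fun v hvx hv => ?_
  have htt : t * t = 1 := by rw [← pow_two, ← ht2, pow_orderOf_eq_one]
  set c := t * s with hc
  have hcx : Commute c x := by
    refine mul_inv_eq_iff_eq_mul.mp ?_
    calc c * x * c⁻¹ = t * (s * x * s⁻¹) * t⁻¹ := by rw [hc]; group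
      _ = x := by rw [hsx, ← conj_inv, ht x hxP, inv_inv]
  have hact : ∀ u ∈ V, c * u * c⁻¹ = t * u * t⁻¹ := fun u hu =>
    calc c * u * c⁻¹ = t * (s * u * s⁻¹) * t⁻¹ := by rw [hc]; group
      _ = t * u * t⁻¹ := by rw [(hVs u hu).eq, mul_inv_cancel_right]
  have hvV := hmem v hvx hv
  have htvV : t * v * t⁻¹ ∈ V := by
    rw [← hact v hvV]
    exact hmem _ ((hcx.mul_left hvx).mul_left hcx.inv_left)
      (by rw [conj_mul, hv, mul_one, mul_inv_cancel])
  have hc2 : Commute (c * c) v := by
    refine mul_inv_eq_iff_eq_mul.mp ?_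
    calc (c * c) * v * (c * c)⁻¹ = c * (c * v * c⁻¹) * c⁻¹ := by group
      _ = t * (t * v * t⁻¹) * t⁻¹ := by rw [hact v hvV, hact _ htvV]
      _ = (t * t) * v * (t * t)⁻¹ := by group
      _ = v := by rw [htt, one_mul, inv_one, mul_one]
  have hc3 : Commute (c ^ 3) v :=
    h.inv_commute hx (hVx _ (hcube c hcx)) (hsq _ (hcube c hcx)) hvx hv
  have hc1 : Commute c v := by
    have : c = c ^ 3 * (c * c)⁻¹ := by simp only [pow_succ, pow_zero]; group
    rw [this]
    exact hc3.mul_left hc2.inv_left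
  refine mul_inv_eq_iff_eq_mul.mp ?_
  rw [← hact v hvV, hc1.eq, mul_inv_cancel_right]

/-- A Sylow `3`-subgroup contains only two lines of conjugates of `x`. -/
theorem no_three {b c : G} (hb : IsConj x b) (hc : IsConj x c) (hbx : Commute b x)
    (hcx : Commute c x) (hcb : Commute c b) (h1 : b ∉ zpowers x) (h2 : c ∉ zpowers x)
    (h3 : c ∉ zpowers b) : False := by
  classical
  obtain ⟨g, rfl⟩ := isConj_iff.mp hb
  obtain ⟨k, rfl⟩ := isConj_iff.mp hc
  have hb3 : orderOf (g * x * g⁻¹) = 3 := ((MulAut.conj g).orderOf_eq x).trans hx.1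
  obtain ⟨Q, hxQ, hbQ, hcQ⟩ := h.mem_of_commute_two hx hx.1 (hb3 ▸ pow_orderOf_eq_one _)
    hbx.symm h1 hcx hcb
  obtain ⟨t, -, ht⟩ := h.exists_inverting hx Q hxQ
  haveI := h.comm_three Q
  set O := Set.range fun n : normalizer ((Q : Subgroup G) : Set G) =>
    (n : G) * x * (n : G)⁻¹ with hO
  have hin : ∀ w : G, IsConj x w → w ∈ (Q : Subgroup G) → w ∈ O := by
    intro w hw hwQ
    obtain ⟨d, rfl⟩ := isConj_iff.mp hw
    obtain ⟨n, hn, he⟩ := Q.conj_eq_normalizer_conj_of_mem x d⁻¹ hxQ
      (by rw [inv_inv]; exact hwQ)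
    rw [inv_inv] at he
    exact ⟨⟨n⁻¹, inv_mem hn⟩, by show n⁻¹ * x * n⁻¹⁻¹ = _; rw [inv_inv, ← he]⟩
  have hinv : ∀ w : G, IsConj x w → IsConj x w⁻¹ := by
    intro w hw
    obtain ⟨d, rfl⟩ := isConj_iff.mp hw
    exact isConj_iff.mpr ⟨d * t, by
      calc d * t * x * (d * t)⁻¹ = d * (t * x * t⁻¹) * d⁻¹ := by group
        _ = (d * x * d⁻¹)⁻¹ := by rw [ht x hxQ, conj_inv]⟩
  set b := g * x * g⁻¹
  set c := k * x * k⁻¹
  have hc3 : orderOf c = 3 := ((MulAut.conj k).orderOf_eq x).trans hx.1
  have hsub : (({x, x⁻¹, b, b⁻¹, c, c⁻¹} : Finset G) : Set G) ⊆ O := by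
    intro w hw
    simp only [Finset.coe_insert, Finset.coe_singleton, Set.mem_insert_iff,
      Set.mem_singleton_iff] at hw
    rcases hw with rfl | rfl | rfl | rfl | rfl | rfl
    · exact hin _ (IsConj.refl _) hxQ
    · exact hin _ (hinv _ (IsConj.refl _)) (inv_mem hxQ)
    · exact hin _ hb hbQ
    · exact hin _ (hinv _ hb) (inv_mem hbQ)
    · exact hin _ hc hcQ
    · exact hin _ (hinv _ hc) (inv_mem hcQ)
  have h6 : ({x, x⁻¹, b, b⁻¹, c, c⁻¹} : Finset G).card = 6 := by
    have hi : ∀ u : G, orderOf u = 3 → u ≠ u⁻¹ := fun u hu e => by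
      have h2 : u ^ 2 = 1 := by rw [pow_two, ← eq_inv_iff_mul_eq_one]; exact e
      have := orderOf_dvd_of_pow_eq_one h2
      rw [hu] at this
      norm_num at this
    have hbx1 : b ≠ x := fun e => h1 (e ▸ mem_zpowers x)
    have hbx2 : b ≠ x⁻¹ := fun e => h1 (e ▸ inv_mem (mem_zpowers x))
    have hcx1 : c ≠ x := fun e => h2 (e ▸ mem_zpowers x)
    have hcx2 : c ≠ x⁻¹ := fun e => h2 (e ▸ inv_mem (mem_zpowers x))
    have hcb1 : c ≠ b := fun e => h3 (e ▸ mem_zpowers b)
    have hcb2 : c ≠ b⁻¹ := fun e => h3 (e ▸ inv_mem (mem_zpowers b))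
    have hx' := hi x hx.1
    have hb' := hi b hb3
    have hc' := hi c hc3
    have hbx3 : b⁻¹ ≠ x := fun e => hbx2 (by rw [← e, inv_inv])
    have hcx3 : c⁻¹ ≠ x := fun e => hcx2 (by rw [← e, inv_inv])
    have hcb3 : c⁻¹ ≠ b := fun e => hcb2 (by rw [← e, inv_inv])
    repeat rw [Finset.card_insert_of_notMem (by
      simp only [Finset.mem_insert, Finset.mem_singleton, inv_inj, not_or]
      tauto)]
    rw [Finset.card_singleton]
  have hle := Nat.card_mono (Set.toFinite O) hsub
  rw [SetLike.coe_sort_coe, Nat.card_eq_finsetCard, h6, hO, h.card_orbit hx Q hxQ] at hle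
  omega

end Hyp

end Cfsg.Agent.BC87.A7
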