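import Cfsg.Agent.BC87.A7.Counts
import Cfsg.Agent.Lib.Involution.IndexTwo

/-!
# The local structure at the prime `3` in a simple group of order `2520`
-/

set_option autoImplicit false

namespace Cfsg.Agent.BC87.A7

open Subgroup

variable {G : Type*} [Group G] [Finite G]

/-- Orbit–stabiliser for a subgroup acting by conjugation. -/
theorem stab_mul_range (N : Subgroup G) (x : G) :
    Nat.card ↥(N ⊓ centralizer ({x} : Set G)) *
      Nat.card ↥(Set.range fun n : N => (n : G) * x * (n : G)⁻¹) = Nat.card N := by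
  set K : Subgroup G := N ⊓ centralizer ({x} : Set G)
  have h1 := (K.subgroupOf N).card_mul_index
  rw [Nat.card_congr (subgroupOfEquivOfLe (inf_le_left : K ≤ N)).toEquiv] at h1
  rw [← h1]
  congr 1
  rw [index_eq_card]
  have hwd : ∀ a b : N, a⁻¹ * b ∈ K.subgroupOf N ↔
      (a : G) * x * (a : G)⁻¹ = (b : G) * x * (b : G)⁻¹ := by
    intro a b
    have hN : (a : G)⁻¹ * (b : G) ∈ N := mul_mem (inv_mem a.2) b.2
    rw [mem_subgroupOf]
    change (a : G)⁻¹ * (b : G) ∈ N ⊓ centralizer ({x} : Set G) ↔ _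
    simp only [mem_inf, hN, true_and, mem_cent, Commute, SemiconjBy]
    constructor
    · intro h
      calc (a : G) * x * (a : G)⁻¹ = (a : G) * (x * ((a : G)⁻¹ * b)) * (b : G)⁻¹ := by group
        _ = (b : G) * x * (b : G)⁻¹ := by rw [← h]; group
    · intro h
      calc (a : G)⁻¹ * b * x = (a : G)⁻¹ * ((b : G) * x * (b : G)⁻¹) * b := by group
        _ = x * ((a : G)⁻¹ * b) := by rw [← h]; group
  refine (Nat.card_congr (Equiv.ofBijective (fun q : N ⧸ K.subgroupOf N => Quotient.liftOn' q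
    (fun n : N => (⟨(n : G) * x * (n : G)⁻¹, n, rfl⟩ :
      Set.range fun n : N => (n : G) * x * (n : G)⁻¹)) fun a b hab => Subtype.ext
        ((hwd a b).mp (QuotientGroup.leftRel_apply.mp hab))) ⟨?_, ?_⟩)).symm
  · intro q q'
    refine Quotient.inductionOn₂' q q' fun a b hab => ?_
    exact QuotientGroup.eq.mpr ((hwd a b).mpr (congrArg Subtype.val hab))
  · rintro ⟨-, n, rfl⟩
    exact ⟨Quotient.mk'' n, rfl⟩

theorem mem_zpowers_three {x w : G} (hx : orderOf x = 3) (h : w ∈ zpowers x) :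
    w = 1 ∨ w = x ∨ w = x⁻¹ := by
  rw [mem_zpowers_iff] at h
  obtain ⟨k, rfl⟩ := h
  rw [← zpow_mod_orderOf, hx]
  have h1 : 0 ≤ k % ((3 : ℕ) : ℤ) := Int.emod_nonneg _ (by norm_num)
  have h2 : k % ((3 : ℕ) : ℤ) < ((3 : ℕ) : ℤ) := Int.emod_lt_of_pos _ (by norm_num)
  obtain h | h | h : k % ((3 : ℕ) : ℤ) = 0 ∨ k % ((3 : ℕ) : ℤ) = 1 ∨ k % ((3 : ℕ) : ℤ) = 2 := by
    omega
  · left; rw [h, zpow_zero]
  · right; left; rw [h, zpow_one]
  · right; right
    rw [h, eq_inv_iff_mul_eq_one]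
    have : x ^ 3 = 1 := hx ▸ pow_orderOf_eq_one x
    calc x ^ (2 : ℤ) * x = x ^ 3 := by group
      _ = 1 := this

namespace Hyp

variable [IsSimpleGroup G] (h : Hyp G)
include h

/-- An element of order `3` whose centraliser has order `36`. -/
def Good (_h : Hyp G) (z : G) : Prop :=
  orderOf z = 3 ∧ Nat.card ↥(centralizer ({z} : Set G)) = 36

theorem exists_good : ∃ z : G, h.Good z := by
  haveI : Fact (Nat.Prime 3) := ⟨Nat.prime_three⟩
  have h70 : Nat.card (Sylow 3 G) = 70 := by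
    obtain ⟨P⟩ := (inferInstance : Nonempty (Sylow 3 G))
    have h1 := SmallGroups.card_normalizer_mul P
    rw [h.card, h.card_norm P] at h1
    omega
  obtain ⟨P, R, hPR, hle⟩ := SmallGroups.exists_small_index_inter (G := G) (p := 3) 2
    (by rw [h70]; decide)
  have hc := ((R : Subgroup G).subgroupOf (P : Subgroup G)).card_mul_index
  rw [h.card_three P] at hc
  have hdvd : 3 ∣ Nat.card ↥((R : Subgroup G).subgroupOf (P : Subgroup G)) := by
    have h9 : Nat.card ↥((R : Subgroup G).subgroupOf (P : Subgroup G)) ∣ 3 ^ 2 :=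
      ⟨_, hc.symm⟩
    obtain ⟨i, hi, he⟩ := (Nat.dvd_prime_pow Nat.prime_three).mp h9
    rw [he] at hc ⊢
    rcases i with _ | i
    · exfalso; norm_num at hle hc; omega
    · exact dvd_pow_self 3 (Nat.succ_ne_zero i)
  obtain ⟨⟨x, hxP⟩, hx⟩ := exists_prime_orderOf_dvd_card' 3 hdvd
  have hxR : (x : G) ∈ (R : Subgroup G) := mem_subgroupOf.mp hxP
  have hx3 : orderOf (x : G) = 3 := by
    rw [orderOf_coe]; exact (orderOf_mk x hxP).symm.trans hx
  have hx1 : (x : G) ≠ 1 := fun e => by rw [e, orderOf_one] at hx3; omega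
  refine ⟨x, hx3, ?_⟩
  set C := centralizer ({(x : G)} : Set G) with hC
  set N := normalizer ((P : Subgroup G) : Set G) with hN
  have hPC : (P : Subgroup G) ≤ C := h.le_cent_three P x.2
  have hRC : (R : Subgroup G) ≤ C := h.le_cent_three R hxR
  obtain ⟨n, hn, hkn⟩ := inner_count P C hPC
  rw [← hN] at hkn
  have hn1 : n ≠ 1 := by
    rintro rfl
    rw [mul_one] at hkn
    have hCN : C ≤ N := (eq_of_le_of_card_ge inf_le_right hkn.ge) ▸ inf_le_left
    apply hPR
    have h2 : (R : Subgroup G) ⊓ N = (R : Subgroup G) ⊓ (P : Subgroup G) :=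
      R.2.inf_normalizer_sylow P
    rw [inf_eq_left.mpr (hRC.trans hCN)] at h2
    refine (Sylow.ext (eq_of_le_of_card_ge (inf_eq_left.mp h2.symm) ?_)).symm
    rw [h.card_three P, h.card_three R]
  have h72 := h.cent_three hx3
  rw [← hC] at h72
  have hle72 := Nat.le_of_dvd (by norm_num) h72
  rcases h.stab_card P x.2 hx1 with hk | hk <;> rw [← hN, ← hC] at hk <;> rw [hk] at hkn
  · have hn8 : n ∣ 8 := by
      rw [← hkn] at h72
      exact Nat.dvd_of_mul_dvd_mul_left (by norm_num) (show 9 * n ∣ 9 * 8 by simpa using h72)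
    have hn8' := Nat.le_of_dvd (by norm_num) hn8
    interval_cases n <;> omega
  · exfalso
    have hn4 : n ∣ 4 := by
      rw [← hkn] at h72
      exact Nat.dvd_of_mul_dvd_mul_left (by norm_num) (show 18 * n ∣ 18 * 4 by simpa using h72)
    have hn4' := Nat.le_of_dvd (by norm_num) hn4
    obtain rfl : n = 4 := by interval_cases n <;> omega
    obtain ⟨g, -, hg⟩ := h.real_of_stab P x.2 (by rw [← hN, ← hC]; exact hk)
    have h144 := card_subgroup_dvd_card
      (normalizer ((zpowers (x : G) : Subgroup G) : Set G))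
    rw [h.card_norm_zpowers hx3 hg, ← hC, ← hkn, h.card] at h144
    norm_num at h144

variable {x : G} (hx : h.Good x) [Fact (Nat.Prime 3)]
include hx

theorem good_conj (g : G) : h.Good (g * x * g⁻¹) :=
  ⟨((MulAut.conj g).orderOf_eq x).trans hx.1, (card_cent_conj x g).trans hx.2⟩

theorem good_ne : x ≠ 1 := fun e => by
  have := hx.1
  rw [e, orderOf_one] at this
  omega

theorem stab_nine (P : Sylow 3 G) (hxP : x ∈ (P : Subgroup G)) :
    Nat.card ↥(normalizer ((P : Subgroup G) : Set G) ⊓ centralizer ({x} : Set G)) = 9 := by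
  obtain ⟨n, hn, hkn⟩ := inner_count P _ (h.le_cent_three P hxP)
  rw [hx.2] at hkn
  rcases h.stab_card P hxP (h.good_ne hx) with hk | hk
  · exact hk
  · rw [hk] at hkn; omega

theorem norm_inf_cent (P : Sylow 3 G) (hxP : x ∈ (P : Subgroup G)) :
    normalizer ((P : Subgroup G) : Set G) ⊓ centralizer ({x} : Set G) = (P : Subgroup G) :=
  (eq_of_le_of_card_ge (le_inf le_normalizer (h.le_cent_three P hxP))
    (by rw [h.stab_nine hx P hxP, h.card_three P])).symm

/-- Sylow `3`-subgroups are self-centralising. -/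
theorem cent_sylow (Q : Sylow 3 G) {a : G}
    (ha : a ∈ centralizer ((Q : Subgroup G) : Set G)) : a ∈ (Q : Subgroup G) := by
  obtain ⟨P, hxP⟩ := exists_sylow_mem hx.1
  obtain ⟨g, hg⟩ := MulAction.exists_smul_eq G P Q
  have hQ : (Q : Subgroup G) = (P : Subgroup G).map (MulAut.conj g).toMonoidHom := by
    rw [← hg]; rfl
  have hmem : ∀ b ∈ (P : Subgroup G), g * b * g⁻¹ ∈ (Q : Subgroup G) := fun b hb => by
    rw [hQ]; exact mem_map_of_mem _ hb
  have h1 : g⁻¹ * a * g ∈ centralizer ((P : Subgroup G) : Set G) := by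
    rw [mem_centralizer_iff]
    intro b hb
    have h2 := mem_centralizer_iff.mp ha _ (hmem b hb)
    calc b * (g⁻¹ * a * g) = g⁻¹ * ((g * b * g⁻¹) * a) * g := by group
      _ = g⁻¹ * (a * (g * b * g⁻¹)) * g := by rw [h2]
      _ = g⁻¹ * a * g * b := by group
  have h3 : g⁻¹ * a * g ∈ (P : Subgroup G) := by
    rw [← h.norm_inf_cent hx P hxP]
    refine ⟨centralizer_le_normalizer _ h1, ?_⟩
    exact mem_cent.mpr (mem_centralizer_iff.mp h1 x hxP).symm
  have := hmem _ h3
  simpa [mul_assoc] using this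

/-- The four conjugates of `x` under the normaliser of a Sylow subgroup containing it. -/
theorem card_orbit (P : Sylow 3 G) (hxP : x ∈ (P : Subgroup G)) :
    Nat.card ↥(Set.range fun n : normalizer ((P : Subgroup G) : Set G) =>
      (n : G) * x * (n : G)⁻¹) = 4 := by
  have h1 := stab_mul_range (normalizer ((P : Subgroup G) : Set G)) x
  rw [h.stab_nine hx P hxP, h.card_norm P] at h1
  omega

/-- A second line of conjugates of `x` in `P`. -/
theorem exists_partner (P : Sylow 3 G) (hxP : x ∈ (P : Subgroup G)) :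
    ∃ n ∈ normalizer ((P : Subgroup G) : Set G), n * x * n⁻¹ ∉ zpowers x := by
  classical
  by_contra hc
  push_neg at hc
  have hsub : (Set.range fun n : normalizer ((P : Subgroup G) : Set G) =>
      (n : G) * x * (n : G)⁻¹) ⊆ ({1, x, x⁻¹} : Finset G) := by
    rintro w ⟨n, rfl⟩
    rcases mem_zpowers_three hx.1 (hc n n.2) with e | e | e <;> simp [e]
  have h1 := Nat.card_mono (Finset.finite_toSet _) hsub
  rw [h.card_orbit hx P hxP, SetLike.coe_sort_coe, Nat.card_eq_finsetCard] at h1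
  have := Finset.card_le_three (a := (1 : G)) (b := x) (c := x⁻¹)
  omega

theorem exists_other (P : Sylow 3 G) (hxP : x ∈ (P : Subgroup G)) :
    ∃ p ∈ (P : Subgroup G), orderOf p = 3 ∧ p ∉ zpowers x := by
  obtain ⟨n, hn, hne⟩ := h.exists_partner hx P hxP
  exact ⟨_, (mem_normalizer_iff.mp hn x).mp hxP, ((MulAut.conj n).orderOf_eq x).trans hx.1, hne⟩

/-- Elements of `3`-power order have order dividing `3`. -/
theorem pow_three (Q : Sylow 3 G) {a : G} (ha : a ∈ (Q : Subgroup G)) : a ^ 3 = 1 := by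
  obtain ⟨P, hxP⟩ := exists_sylow_mem hx.1
  obtain ⟨p, hpP, hp3, hpx⟩ := h.exists_other hx P hxP
  obtain ⟨g, hg⟩ := MulAction.exists_smul_eq G P Q
  have hQ : (Q : Subgroup G) = (P : Subgroup G).map (MulAut.conj g).toMonoidHom := by
    rw [← hg]; rfl
  rw [hQ] at ha
  obtain ⟨b, hb, rfl⟩ := ha
  have hcm : ∀ u v : (P : Subgroup G), u * v = v * u :=
    fun u v => isMulCommutative_iff.mp (h.comm_three P) u v
  let F : Subgroup ↥(P : Subgroup G) :=
    { carrier := {u | u ^ 3 = 1}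
      one_mem' := one_pow 3
      mul_mem' := fun {u v} hu hv => by
        simp only [Set.mem_setOf_eq] at *
        rw [(show Commute u v from hcm u v).mul_pow, hu, hv, one_mul]
      inv_mem' := fun {u} hu => by
        simp only [Set.mem_setOf_eq] at *
        rw [inv_pow, hu, inv_one] }
  have hxF : (⟨x, hxP⟩ : ↥(P : Subgroup G)) ∈ F :=
    Subtype.ext (show x ^ 3 = 1 from hx.1 ▸ pow_orderOf_eq_one x)
  have hpF : (⟨p, hpP⟩ : ↥(P : Subgroup G)) ∈ F :=
    Subtype.ext (show p ^ 3 = 1 from hp3 ▸ pow_orderOf_eq_one p)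
  have hF : F = ⊤ := by
    refine eq_top_of_card_eq _ ?_
    rw [h.card_three P]
    have hd : Nat.card F ∣ 3 ^ 2 := by
      have := F.card_subgroup_dvd_card
      rw [h.card_three P] at this
      exact this
    obtain ⟨i, hi, he⟩ := (Nat.dvd_prime_pow Nat.prime_three).mp hd
    by_contra hne
    have hle : Nat.card F ≤ Nat.card ↥(zpowers (⟨x, hxP⟩ : ↥(P : Subgroup G))) := by
      rw [Nat.card_zpowers, ← orderOf_coe, hx.1, he]
      have : i ≠ 2 := fun e => hne (by rw [he, e]; norm_num)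
      interval_cases i <;> norm_num at *
    have hz := eq_of_le_of_card_ge (zpowers_le.mpr hxF) hle
    rw [← hz, mem_zpowers_iff] at hpF
    obtain ⟨k, hk⟩ := hpF
    exact hpx (mem_zpowers_iff.mpr ⟨k, by simpa using congrArg Subtype.val hk⟩)
  have h1 : (⟨b, hb⟩ : ↥(P : Subgroup G)) ^ 3 = 1 := (hF ▸ mem_top _ : _ ∈ F)
  have h2 : b ^ 3 = 1 := congrArg Subtype.val h1
  rw [← map_pow, h2, map_one]

/-- Two independent commuting elements of order `3` generate a Sylow subgroup. -/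
theorem two_lines_sylow {u v : G} (hu : orderOf u = 3) (hv : v ^ 3 = 1) (huv : Commute u v)
    (hne : v ∉ zpowers u) : ∃ Q : Sylow 3 G, closure ({u, v} : Set G) = (Q : Subgroup G) := by
  have hcc : ∀ y ∈ ({u, v} : Set G), ∀ z ∈ ({u, v} : Set G), y * z = z * y := by
    intro y hy z hz
    rcases hy with rfl | rfl <;> rcases hz with rfl | rfl
    · rfl
    · exact huv.eq
    · exact huv.eq.symm
    · rfl
  set W := closure ({u, v} : Set G) with hW
  haveI : IsMulCommutative W := isMulCommutative_closure hcc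
  have hpg : IsPGroup 3 W := by
    rintro ⟨w, hw⟩
    refine ⟨1, Subtype.ext ?_⟩
    show w ^ (3 : ℕ) ^ 1 = 1
    rw [pow_one]
    induction hw using Subgroup.closure_induction with
    | mem y hy =>
      rcases hy with rfl | rfl
      · exact hu ▸ pow_orderOf_eq_one _
      · exact hv
    | one => exact one_pow 3
    | mul y z hy hz ihy ihz =>
      have : Commute y z :=
        congrArg Subtype.val (isMulCommutative_iff.mp ‹IsMulCommutative W› ⟨y, hy⟩ ⟨z, hz⟩)
      rw [this.mul_pow, ihy, ihz, one_mul]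
    | inv y hy ihy => rw [inv_pow, ihy, inv_one]
  obtain ⟨Q, hQ⟩ := hpg.exists_le_sylow
  have hWQ : W = (Q : Subgroup G) := by
    refine eq_of_le_of_card_ge hQ ?_
    rw [h.card_three Q]
    have hd : Nat.card W ∣ 3 ^ 2 := by
      have := card_dvd_of_le hQ
      rw [h.card_three Q] at this
      exact this
    obtain ⟨i, hi, he⟩ := (Nat.dvd_prime_pow Nat.prime_three).mp hd
    by_contra hlt
    have hle : Nat.card W ≤ Nat.card ↥(zpowers u) := by
      rw [Nat.card_zpowers, hu, he]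
      have : i ≠ 2 := fun e => hlt (by rw [he, e]; norm_num)
      interval_cases i <;> norm_num at *
    have hz := eq_of_le_of_card_ge (zpowers_le.mpr (subset_closure (Set.mem_insert u _))) hle
    exact hne (hz ▸ subset_closure (Set.mem_insert_of_mem u rfl))
  exact ⟨Q, hWQ⟩

/-- An element commuting with two independent elements of order `3` lies in their closure. -/
theorem mem_of_commute_two {u v a : G} (hu : orderOf u = 3) (hv : v ^ 3 = 1) (huv : Commute u v)
    (hne : v ∉ zpowers u) (hau : Commute a u) (hav : Commute a v) :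
    ∃ Q : Sylow 3 G, u ∈ (Q : Subgroup G) ∧ v ∈ (Q : Subgroup G) ∧ a ∈ (Q : Subgroup G) := by
  obtain ⟨Q, hQ⟩ := h.two_lines_sylow hx hu hv huv hne
  refine ⟨Q, hQ ▸ subset_closure (Set.mem_insert u _),
    hQ ▸ subset_closure (Set.mem_insert_of_mem u rfl), h.cent_sylow hx Q ?_⟩
  rw [← hQ, centralizer_closure, mem_centralizer_iff]
  rintro y (rfl | rfl)
  · exact hau.eq.symm
  · exact hav.eq.symm

/-- No involution commutes with two independent commuting elements of order `3`. -/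
theorem no_inv_two_lines {u v a : G} (hu : orderOf u = 3) (hv : v ^ 3 = 1) (huv : Commute u v)
    (hne : v ∉ zpowers u) (ha : orderOf a = 2) (hau : Commute a u) : ¬ Commute a v := by
  intro hav
  obtain ⟨Q, -, -, haQ⟩ := h.mem_of_commute_two hx hu hv huv hne hau hav
  have := orderOf_dvd_natCard _ haQ
  rw [ha, h.card_three Q] at this
  norm_num at this

/-- Some involution of the normaliser inverts the whole Sylow subgroup. -/
theorem exists_inverting (P : Sylow 3 G) (hxP : x ∈ (P : Subgroup G)) :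
    ∃ t : G, orderOf t = 2 ∧ ∀ p ∈ (P : Subgroup G), t * p * t⁻¹ = p⁻¹ := by
  haveI : Fact (Nat.Prime 2) := ⟨Nat.prime_two⟩
  set N := normalizer ((P : Subgroup G) : Set G) with hN
  have hcm : ∀ a ∈ (P : Subgroup G), ∀ b ∈ (P : Subgroup G), a * b = b * a := fun a ha b hb =>
    congrArg Subtype.val (isMulCommutative_iff.mp (h.comm_three P) ⟨a, ha⟩ ⟨b, hb⟩)
  have hcube : ∀ a ∈ (P : Subgroup G), a ^ 3 = 1 := fun a ha => h.pow_three hx P ha
  obtain ⟨s, hsN, hs2⟩ := exists_mem_orderOf N 2 (by rw [h.card_norm P]; norm_num)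
  have hss : s * s = 1 := by rw [← pow_two, ← hs2, pow_orderOf_eq_one]
  have hsinv : s⁻¹ = s := inv_eq_of_mul_eq_one_right hss
  have hmem : ∀ n ∈ N, ∀ a ∈ (P : Subgroup G), n * a * n⁻¹ ∈ (P : Subgroup G) :=
    fun n hn a ha => (mem_normalizer_iff.mp hn a).mp ha
  -- `a * a ^ s` is fixed and `a * (a ^ s)⁻¹` is inverted by `s`
  have hfix : ∀ a ∈ (P : Subgroup G),
      s * (a * (s * a * s⁻¹)) * s⁻¹ = a * (s * a * s⁻¹) := by
    intro a ha
    rw [hcm a ha _ (hmem s hsN a ha), hsinv]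
    calc s * (s * a * s * a) * s = (s * s) * a * s * a * s := by simp only [mul_assoc]
      _ = a * (s * a * s) := by rw [hss, one_mul]; simp only [mul_assoc]
      _ = s * a * s * a := by
          have := hcm a ha _ (hmem s hsN a ha)
          rw [hsinv] at this
          exact this
  by_cases hE : ∀ e ∈ (P : Subgroup G), s * e * s⁻¹ = e → e = 1
  · refine ⟨s, hs2, fun a ha => ?_⟩
    exact eq_inv_of_mul_eq_one_right (hE _ (mul_mem ha (hmem s hsN a ha)) (hfix a ha))
  push_neg at hE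
  obtain ⟨e, heP, hse, he1⟩ := hE
  set K := N ⊓ centralizer ({e} : Set G) with hK
  have hsK : s ∈ K := ⟨hsN, mem_cent.mpr (mul_inv_eq_iff_eq_mul.mp hse)⟩
  have hk18 : Nat.card K = 18 := by
    rcases h.stab_card P heP he1 with hk | hk
    · exfalso
      have := orderOf_dvd_natCard _ hsK
      rw [hs2, hK, hN, hk] at this
      norm_num at this
    · exact hk
  obtain ⟨g, hgN, hge⟩ := h.real_of_stab P heP hk18
  -- the conjugate of `s` under `g` acts like `s`
  have hg' : ∀ a ∈ (P : Subgroup G),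
      (g * s * g⁻¹) * a * (g * s * g⁻¹)⁻¹ = s * a * s⁻¹ := by
    have hPK : (P : Subgroup G) ≤ K := le_inf le_normalizer (h.le_cent_three P heP)
    have hidx : ((P : Subgroup G).subgroupOf K).index = 2 := by
      have h1 := ((P : Subgroup G).subgroupOf K).card_mul_index
      rw [Nat.card_congr (subgroupOfEquivOfLe hPK).toEquiv, hk18, h.card_three P] at h1
      omega
    have hnot : ∀ u : G, orderOf u = 2 → u ∉ (P : Subgroup G) := fun u hu hu' => by
      have := orderOf_dvd_natCard _ hu'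
      rw [hu, h.card_three P] at this
      norm_num at this
    have hs'K : g * s * g⁻¹ ∈ K := by
      refine ⟨show g * s * g⁻¹ ∈ N from mul_mem (mul_mem hgN hsN) (inv_mem hgN), mem_cent.mpr ?_⟩
      have h1 : Commute (g * s * g⁻¹) (g * e * g⁻¹) :=
        (mem_cent.mp hsK.2).map (MulAut.conj g)
      rw [hge] at h1
      exact Commute.inv_right_iff.mp h1
    have hprod : g * s * g⁻¹ * s ∈ (P : Subgroup G) :=
      (mul_mem_iff_of_index_two hidx (a := ⟨_, hs'K⟩) (b := ⟨s, hsK⟩)).mpr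
        (iff_of_false (hnot _ (((MulAut.conj g).orderOf_eq s).trans hs2)) (hnot s hs2))
    intro a ha
    have hc := hcm _ hprod (s * a * s⁻¹) (hmem s hsN a ha)
    set r := g * s * g⁻¹ * s
    have hr : g * s * g⁻¹ = r * s := by rw [mul_assoc _ s s, hss, mul_one]
    rw [hr]
    calc r * s * a * (r * s)⁻¹ = r * (s * a * s⁻¹) * r⁻¹ := by group
      _ = s * a * s⁻¹ := by rw [hc, mul_inv_cancel_right]
  -- the subgroups fixed and inverted by `s`
  let E : Subgroup G :=
    { carrier := {a | a ∈ (P : Subgroup G) ∧ s * a * s⁻¹ = a}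
      one_mem' := ⟨one_mem _, by group⟩
      mul_mem' := fun {a b} ha hb => ⟨mul_mem ha.1 hb.1, by rw [← conj_mul, ha.2, hb.2]⟩
      inv_mem' := fun {a} ha => ⟨inv_mem ha.1, by rw [← conj_inv, ha.2]⟩ }
  let I : Subgroup G :=
    { carrier := {a | a ∈ (P : Subgroup G) ∧ s * a * s⁻¹ = a⁻¹}
      one_mem' := ⟨one_mem _, by group⟩
      mul_mem' := fun {a b} ha hb => ⟨mul_mem ha.1 hb.1, by
        rw [← conj_mul, ha.2, hb.2, mul_inv_rev, hcm _ (inv_mem ha.1) _ (inv_mem hb.1)]⟩
      inv_mem' := fun {a} ha => ⟨inv_mem ha.1, by rw [← conj_inv, ha.2]⟩ }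
  have hprop : ∀ H : Subgroup G, H ≤ (P : Subgroup G) → (∃ a ∈ (P : Subgroup G), a ∉ H) →
      ∀ a ∈ H, a ≠ 1 → ∀ b ∈ H, b ∈ zpowers a := by
    intro H hHP ⟨a₀, ha₀P, ha₀⟩ a ha ha1 b hb
    have hd : Nat.card H ∣ 3 ^ 2 := by
      have := card_dvd_of_le hHP
      rw [h.card_three P] at this
      exact this
    obtain ⟨i, hi, hc⟩ := (Nat.dvd_prime_pow Nat.prime_three).mp hd
    have hi2 : i ≠ 2 := fun e => ha₀ (by
      rw [eq_of_le_of_card_ge hHP (by rw [h.card_three P, hc, e]; norm_num)]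
      exact ha₀P)
    have hz : zpowers a = H := by
      refine eq_of_le_of_card_ge (zpowers_le.mpr ha) ?_
      rw [Nat.card_zpowers, orderOf_eq_prime (hcube a (hHP ha)) ha1, hc]
      interval_cases i <;> norm_num at *
    rw [hz]
    exact hb
  have hgE : ∀ a ∈ E, g * a * g⁻¹ = a⁻¹ := by
    have hnot : ∃ a ∈ (P : Subgroup G), a ∉ E := by
      by_contra hc
      push_neg at hc
      have hsC : s ∈ centralizer ((P : Subgroup G) : Set G) := mem_centralizer_iff.mpr
        fun a ha => (mul_inv_eq_iff_eq_mul.mp (hc a ha).2).symm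
      have := orderOf_dvd_natCard _ (h.cent_sylow hx P hsC)
      rw [hs2, h.card_three P] at this
      norm_num at this
    intro a ha
    obtain ⟨k, rfl⟩ := mem_zpowers_iff.mp
      (hprop E (fun a ha => ha.1) hnot e ⟨heP, hse⟩ he1 a ha)
    rw [← conj_zpow, hge, inv_zpow]
  have hgI : ∀ a ∈ I, g * a * g⁻¹ ∈ I := by
    intro a ha
    refine ⟨hmem g hgN a ha.1, ?_⟩
    rw [← hg' _ (hmem g hgN a ha.1)]
    calc g * s * g⁻¹ * (g * a * g⁻¹) * (g * s * g⁻¹)⁻¹ = g * (s * a * s⁻¹) * g⁻¹ := by group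
      _ = (g * a * g⁻¹)⁻¹ := by rw [ha.2, conj_inv]
  have heI : ∃ a ∈ (P : Subgroup G), a ∉ I := by
    refine ⟨e, heP, fun hI => he1 ?_⟩
    have h1 : e = e⁻¹ := hse.symm.trans hI.2
    have h2 : e * e = 1 := by rw [← eq_inv_iff_mul_eq_one]; exact h1
    have h3 := hcube e heP
    rw [pow_succ, pow_two, h2, one_mul] at h3
    exact h3
  obtain ⟨k, hkN, hkE, hkI⟩ : ∃ k ∈ N, (∀ a ∈ E, k * a * k⁻¹ = a⁻¹) ∧
      ∀ a ∈ I, k * a * k⁻¹ = a⁻¹ := by
    by_cases hI : ∀ a ∈ I, g * a * g⁻¹ = a⁻¹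
    · exact ⟨g, hgN, hgE, hI⟩
    push_neg at hI
    obtain ⟨a, ha, hga⟩ := hI
    have ha1 : a ≠ 1 := fun e' => hga (by rw [e']; group)
    have hI' := hprop I (fun a ha => ha.1) heI a ha ha1
    have hga' : g * a * g⁻¹ = a := by
      rcases mem_zpowers_three (orderOf_eq_prime (hcube a ha.1) ha1)
        (hI' _ (hgI a ha)) with e' | e' | e'
      · exact absurd (conj_eq_one_iff.mp e') ha1
      · exact e'
      · exact absurd e' hga
    refine ⟨g * s, mul_mem hgN hsN, fun b hb => ?_, fun b hb => ?_⟩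
    · calc g * s * b * (g * s)⁻¹ = g * (s * b * s⁻¹) * g⁻¹ := by group
        _ = b⁻¹ := by rw [hb.2, hgE b hb]
    · calc g * s * b * (g * s)⁻¹ = g * (s * b * s⁻¹) * g⁻¹ := by group
        _ = (g * b * g⁻¹)⁻¹ := by rw [hb.2, conj_inv]
        _ = b⁻¹ := by
            obtain ⟨j, rfl⟩ := mem_zpowers_iff.mp (hI' b hb)
            rw [← conj_zpow, hga']
  have hk : ∀ a ∈ (P : Subgroup G), k * a * k⁻¹ = a⁻¹ := by
    intro a ha
    have hb := hmem s hsN a ha
    have h1 := hkE (a * (s * a * s⁻¹)) ⟨mul_mem ha hb, hfix a ha⟩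
    have hIm : a * (s * a * s⁻¹)⁻¹ ∈ I := by
      refine ⟨mul_mem ha (inv_mem hb), ?_⟩
      have hss2 : s * (s * a * s⁻¹) * s⁻¹ = a := by
        rw [hsinv]
        calc s * (s * a * s) * s = (s * s) * a * (s * s) := by simp only [mul_assoc]
          _ = a := by rw [hss, one_mul, mul_one]
      rw [← conj_mul, ← conj_inv, hss2, mul_inv_rev, inv_inv]
    have h2 := hkI _ hIm
    have hsq : (a * (s * a * s⁻¹)) * (a * (s * a * s⁻¹)⁻¹) = a ^ 2 := by
      rw [hcm a ha _ (inv_mem hb), ← mul_assoc, mul_assoc a, mul_inv_cancel, mul_one, pow_two]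
    have h3 : k * a ^ 2 * k⁻¹ = (a ^ 2)⁻¹ := by
      rw [← hsq, ← conj_mul, h1, h2, ← mul_inv_rev,
        hcm _ (mul_mem ha hb) _ (mul_mem ha (inv_mem hb))]
    have h4 : (a ^ 2) ^ 2 = a := by rw [← pow_mul, pow_succ, hcube a ha, one_mul]
    calc k * a * k⁻¹ = k * (a ^ 2) ^ 2 * k⁻¹ := by rw [h4]
      _ = (k * a ^ 2 * k⁻¹) ^ 2 := by rw [conj_pow]
      _ = a⁻¹ := by rw [h3, inv_pow, h4]
  have hkk : k * k ∈ (P : Subgroup G) := by
    refine h.cent_sylow hx P (mem_centralizer_iff.mpr fun a ha => ?_)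
    have h1 : (k * k) * a * (k * k)⁻¹ = a :=
      calc (k * k) * a * (k * k)⁻¹ = k * (k * a * k⁻¹) * k⁻¹ := by group
        _ = a := by rw [hk a ha, ← conj_inv, hk a ha, inv_inv]
    exact (mul_inv_eq_iff_eq_mul.mp h1).symm
  have hk3 : (k ^ 3) * (k ^ 3) = 1 := by
    rw [← pow_add, show 3 + 3 = 2 * 3 by norm_num, pow_mul, pow_two]
    exact hcube _ hkk
  have hkinv : ∀ a ∈ (P : Subgroup G), k ^ 3 * a * (k ^ 3)⁻¹ = a⁻¹ := fun a ha =>
    calc k ^ 3 * a * (k ^ 3)⁻¹ = k * (k * (k * a * k⁻¹) * k⁻¹) * k⁻¹ := by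
          rw [pow_succ, pow_two]; group
      _ = a⁻¹ := by
          rw [hk a ha, ← conj_inv, hk a ha, inv_inv, hk a ha]
  refine ⟨k ^ 3, orderOf_eq_prime (by rw [pow_two, hk3]) (fun e1 => ?_), hkinv⟩
  have h1 := hkinv x hxP
  rw [e1, one_mul, inv_one, mul_one] at h1
  have h2 : x * x = 1 := by rw [← eq_inv_iff_mul_eq_one]; exact h1
  have := orderOf_dvd_of_pow_eq_one (show x ^ 2 = 1 by rw [pow_two, h2])
  rw [hx.1] at this
  norm_num at this

end Hyp

end Cfsg.Agent.BC87.A7
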